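import Mathlib
import Cfsg.Agent.KFacts.TwESix.NodeCoord
import Cfsg.Agent.H631.Kaw.Coef_m3
import Cfsg.Agent.Characters.Central
import Cfsg.Agent.Characters.DegreeBounds
import Cfsg.Agent.H866.D4Wf.Coset
import Cfsg.Agent.Nodes.NormalForm
import Cfsg.Agent.H456.FixHalf3
import Cfsg.Agent.H769.Kaw.Main
import Cfsg.Agent.H965.XZ.Walk
import Cfsg.Agent.FastGrp
import Cfsg.Agent.Prune
set_option linter.all false

section
prune_inst 0x7ffdecfbbbadf9dfdfff7e3fffdbdffdf1aa0fffe6dffdcb7fe869bf7bff6b80cfc5fb8f8be212fe1f77e29410b87b43fdffefffe86bdc7ffffd5ff41ffbee0fe5f7350851d898a007bc0ffe03f1678e6f3fffffffffffffffffffffffffffbefffffbfeffff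

-- part: H866/OZ/Elliptic
section
prune_inst 0x20100440000200000018000040000040000000020000000000400000014002002040000104000008000000500000002001000020420000000a000000000400000800000050014080000000000180000000000000000000000000000000000000000000000
set_option linter.all false
open scoped Cfsg.Agent.FastGrp

-- part: H866/OZ/RankOne
section
/-!
# S4842: rank one (helper866)

`ψ : SL₂(F) →* A` (`A` a complex algebra with a trace `tr`), `ε` an idempotent commuting with the image of `ψ`,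
`u` = (average over the upper unipotent group) `* ε`.  If `ε` is "generated" by `u`, then for elliptic `B` and `τ`
commuting with everything `tr (τ ψ(B) ε) = tr (τ πA) - tr (τ πS)`, and
`tr ε = tr πA + q tr πS + (q+1)/2 tr π'`, where `u = πA + πS + π'`.
-/

set_option autoImplicit false
set_option linter.unusedSectionVars false
set_option maxHeartbeats 400000

namespace Cfsg.Agent.H866.OZ

open Cfsg.Agent.ChevalleyStructure.SL2Hom (up lo mem_closure_SL2)
open Cfsg.Agent.Nodes.RGDFoldSL (wS hS coe_wS coe_hS)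
open Cfsg.Agent.KFacts.TwESix.NodeCoord (eq_of_zero eq_of_ne_zero hS_mul hS_up)
open Finset

section SL

variable {F : Type*} [Field F]

theorem up_add (a b : F) : up (a + b) = up a * up b := by
  apply Subtype.ext
  rw [Matrix.SpecialLinearGroup.coe_mul]
  show !![1, a + b; 0, 1] = !![1, a; 0, 1] * !![1, b; 0, 1]
  ext i j
  (revert i j; simp [add_comm, _root_.Fin.forall_fin_succ])

theorem up_zero : up (0 : F) = 1 := by
  apply Subtype.ext
  show !![1, (0 : F); 0, 1] = 1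
  ext i j
  (revert i j; simp only [_root_.Fin.forall_fin_succ, _root_.Matrix.of_apply, _root_.Matrix.cons_val', _root_.Matrix.cons_val_fin_one, Fin.isValue, _root_.Matrix.cons_val_zero, _root_.Matrix.cons_val_succ, _root_.IsEmpty.forall_iff, _root_.and_true, _root_.Matrix.one_apply_eq, Nat.reduceAdd, _root_.Fin.succ_zero_eq_one, _root_.ne_eq, _root_.zero_ne_one, _root_.not_false_eq_true, _root_.Matrix.one_apply_ne, _root_.and_self, _root_.Fin.succ_ne_zero, _root_.true_and])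

theorem up_neg (a : F) : up (-a) = (up a)⁻¹ := by
  rw [eq_inv_iff_mul_eq_one, ← up_add, neg_add_cancel, up_zero]

theorem lo_eq (c : F) : lo c = (wS 1)⁻¹ * up (-c) * wS 1 := by
  have h1 : wS 1 * lo c = up (-c) * wS 1 := by
    apply Subtype.ext
    rw [Matrix.SpecialLinearGroup.coe_mul, Matrix.SpecialLinearGroup.coe_mul, coe_wS one_ne_zero]
    show !![0, 1; -(1 : F)⁻¹, 0] * !![1, 0; c, 1] = !![1, -c; 0, 1] * !![0, 1; -(1 : F)⁻¹, 0]
    ext i j
    (revert i j; simp [_root_.Fin.forall_fin_succ])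
  rw [mul_assoc, ← h1, inv_mul_cancel_left]

/-- `w · up a · w = up (-a⁻¹) · w · (upper triangular)` -/
theorem w_up_w {a : F} (ha : a ≠ 0) :
    wS 1 * up a * wS 1 = up (-a⁻¹) * wS 1 * (hS (-a) * up (-a⁻¹)) := by
  apply Subtype.ext
  simp only [Matrix.SpecialLinearGroup.coe_mul]
  rw [coe_wS one_ne_zero, coe_hS (neg_ne_zero.2 ha)]
  show !![0, 1; -(1 : F)⁻¹, 0] * !![1, a; 0, 1] * !![0, 1; -(1 : F)⁻¹, 0] =
    !![1, -a⁻¹; 0, 1] * !![0, 1; -(1 : F)⁻¹, 0] * (!![-a, 0; 0, (-a)⁻¹] * !![1, -a⁻¹; 0, 1])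
  ext i j
  fin_cases i <;> fin_cases j <;> (simp only [_root_.inv_one, _root_.Matrix.cons_mul, _root_.Nat.succ_eq_add_one, _root_.Nat.reduceAdd, _root_.Matrix.vecMul_cons, _root_.Matrix.head_cons, _root_.zero_smul, _root_.Matrix.tail_cons, _root_.one_smul, _root_.Matrix.empty_vecMul, _root_.add_zero, _root_.zero_add, _root_.neg_smul, _root_.Matrix.neg_cons, _root_.Matrix.neg_empty, _root_.Matrix.empty_mul, _root_.Equiv.symm_apply_apply, _root_.Fin.zero_eta, _root_.Fin.isValue, _root_.neg_zero, _root_.Matrix.smul_cons, _root_.smul_eq_mul, _root_.mul_neg, _root_.mul_one, _root_.MulZeroClass.mul_zero, _root_.Matrix.smul_empty, _root_.neg_neg, _root_.Matrix.add_cons, _root_.Matrix.empty_add_empty, _root_.Matrix.of_apply, _root_.Matrix.cons_val', _root_.Matrix.cons_val_zero, _root_.Matrix.cons_val_fin_one, _root_.inv_neg, _root_.neg_inj, _root_.Fin.mk_one, _root_.Matrix.cons_val_one]; try field_simp; try simp)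

/-- `w · up a · w⁻¹ = up (-a⁻¹) · w · hS a · up (-a⁻¹)` -/
theorem w_up_winv {a : F} (ha : a ≠ 0) :
    wS 1 * up a * (wS 1)⁻¹ = up (-a⁻¹) * wS 1 * (hS a * up (-a⁻¹)) := by
  rw [mul_inv_eq_iff_eq_mul]
  apply Subtype.ext
  simp only [Matrix.SpecialLinearGroup.coe_mul]
  rw [coe_wS one_ne_zero, coe_hS ha]
  show !![0, 1; -(1 : F)⁻¹, 0] * !![1, a; 0, 1] =
    !![1, -a⁻¹; 0, 1] * !![0, 1; -(1 : F)⁻¹, 0] * (!![a, 0; 0, a⁻¹] * !![1, -a⁻¹; 0, 1]) * !![0, 1; -(1 : F)⁻¹, 0]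
  ext i j
  fin_cases i <;> fin_cases j <;> (simp only [_root_.inv_one, _root_.Fin.zero_eta, _root_.Fin.isValue, _root_.Matrix.cons_mul, _root_.Nat.succ_eq_add_one, _root_.Nat.reduceAdd, _root_.Matrix.vecMul_cons, _root_.Matrix.head_cons, _root_.zero_smul, _root_.Matrix.tail_cons, _root_.one_smul, _root_.Matrix.empty_vecMul, _root_.add_zero, _root_.zero_add, _root_.neg_smul, _root_.Matrix.neg_cons, _root_.Matrix.neg_empty, _root_.Matrix.empty_mul, _root_.Equiv.symm_apply_apply, _root_.Matrix.of_apply, _root_.Matrix.cons_val', _root_.Matrix.cons_val_zero, _root_.Matrix.cons_val_fin_one, _root_.Matrix.smul_cons, _root_.smul_eq_mul, _root_.mul_neg, _root_.mul_one, _root_.MulZeroClass.mul_zero, _root_.Matrix.smul_empty, _root_.neg_neg, _root_.neg_zero, _root_.Matrix.add_cons, _root_.Matrix.empty_add_empty, _root_.neg_add_rev, _root_.Fin.mk_one, _root_.Matrix.cons_val_one, _root_.neg_inj]; try field_simp; try simp)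

theorem w_hS {c : F} (hc : c ≠ 0) : wS 1 * hS c = hS c⁻¹ * wS 1 := by
  apply Subtype.ext
  simp only [Matrix.SpecialLinearGroup.coe_mul]
  rw [coe_wS one_ne_zero, coe_hS hc, coe_hS (inv_ne_zero hc)]
  ext i j
  (revert i j; simp [_root_.Fin.forall_fin_succ])

theorem w_sq : wS 1 * wS 1 = hS (-1 : F) := by
  apply Subtype.ext
  simp only [Matrix.SpecialLinearGroup.coe_mul]
  rw [coe_wS one_ne_zero, coe_hS (neg_ne_zero.2 one_ne_zero)]
  ext i j
  (revert i j; simp [_root_.Fin.forall_fin_succ])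

theorem hS_one : hS (1 : F) = 1 := by
  apply Subtype.ext
  rw [coe_hS one_ne_zero]
  ext i j
  (revert i j; simp only [_root_.Fin.forall_fin_succ, _root_.inv_one, _root_.Matrix.of_apply, _root_.Matrix.cons_val', _root_.Matrix.cons_val_fin_one, _root_.Matrix.SpecialLinearGroup.coe_one, Fin.isValue, _root_.Matrix.cons_val_zero, _root_.Matrix.cons_val_succ, _root_.IsEmpty.forall_iff, _root_.and_true, _root_.Matrix.one_apply_eq, Nat.reduceAdd, _root_.Fin.succ_zero_eq_one, _root_.ne_eq, _root_.zero_ne_one, _root_.not_false_eq_true, _root_.Matrix.one_apply_ne, _root_.and_self, _root_.Fin.succ_ne_zero, _root_.true_and])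

/-- no conjugate is upper triangular -/
def Ellip (B : Matrix.SpecialLinearGroup (Fin 2) F) : Prop := ∀ C : Matrix.SpecialLinearGroup (Fin 2) F, (C⁻¹ * B * C).1 1 0 ≠ 0

end SL

section Alg

variable {F : Type*} [Field F] [Fintype F] [DecidableEq F] {A : Type*} [Ring A] [Algebra ℂ A]
  (ψ : Matrix.SpecialLinearGroup (Fin 2) F →* A) (ε : A)

theorem sum_units {B : Type*} [AddCommMonoid B] (f : F → B) : ∑ a : F, f a = f 0 + ∑ c : Fˣ, f c := by
  rw [← Finset.add_sum_erase _ _ (Finset.mem_univ (0 : F))]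
  congr 1
  symm
  refine Finset.sum_bij' (fun c _ => (c : F)) (fun a ha => Units.mk0 a (Finset.ne_of_mem_erase ha)) ?_ ?_ ?_ ?_ ?_
  · intro c _
    exact Finset.mem_erase.2 ⟨c.ne_zero, Finset.mem_univ _⟩
  · intro a _
    exact Finset.mem_univ _
  · intro c _
    exact Units.ext rfl
  · intro a _
    rfl
  · intro c _
    rfl

/-- the number of elements, as a complex number -/
noncomputable def qq (F : Type*) [Fintype F] : ℂ := (Fintype.card F : ℂ)

theorem qq_ne_zero : qq F ≠ 0 := by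
  rw [qq, Nat.cast_ne_zero]
  exact Fintype.card_ne_zero

theorem one_lt : 1 < Fintype.card F := Fintype.one_lt_card

theorem qq_ne_one : qq F ≠ 1 := by
  rw [qq]
  have := one_lt (F := F)
  intro h
  have h1 : Fintype.card F = 1 := by exact_mod_cast h
  omega

theorem qq_add_ne : qq F + 1 ≠ 0 := by
  rw [qq]
  exact Nat.cast_add_one_ne_zero _

/-- average over the upper unipotent group -/
noncomputable def eX : A := (qq F)⁻¹ • ∑ a : F, ψ (up a)
/-- the projection onto the fixed points of the upper unipotent group in the image of `ε` -/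
noncomputable def uu : A := eX ψ * ε
noncomputable def Zt (a : F) : A := ψ (up a * wS 1) * uu ψ ε * ψ (up a * wS 1)⁻¹
noncomputable def ZZ : A := uu ψ ε + ∑ a : F, Zt ψ ε a
noncomputable def th : A := uu ψ ε * ψ (wS 1) * uu ψ ε
noncomputable def eta : A := (qq F - 1)⁻¹ • ∑ c : Fˣ, ψ (hS (c : F))

theorem sum_up : ∑ a : F, ψ (up a) = qq F • eX ψ := by
  rw [eX, smul_smul, mul_inv_cancel₀ qq_ne_zero, one_smul]

theorem sum_hS : ∑ c : Fˣ, ψ (hS (c : F)) = (qq F - 1) • eta ψ := by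
  rw [eta, smul_smul, mul_inv_cancel₀ (sub_ne_zero.2 qq_ne_one), one_smul]

theorem up_eX (b : F) : ψ (up b) * eX ψ = eX ψ := by
  rw [eX, mul_smul_comm, Finset.mul_sum]
  congr 1
  rw [← Equiv.sum_comp (Equiv.addLeft b) (fun a => ψ (up a))]
  exact Finset.sum_congr rfl fun a _ => by rw [← map_mul, ← up_add]; rfl

theorem eX_up (b : F) : eX ψ * ψ (up b) = eX ψ := by
  rw [eX, smul_mul_assoc, Finset.sum_mul]
  congr 1
  rw [← Equiv.sum_comp (Equiv.addRight b) (fun a => ψ (up a))]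
  exact Finset.sum_congr rfl fun a _ => by rw [← map_mul, ← up_add]; rfl

theorem eX_eX : eX ψ * eX ψ = eX ψ := by
  have h1 : ∑ a : F, eX ψ * ψ (up a) = (Fintype.card F : ℕ) • eX ψ := by
    rw [Finset.sum_congr rfl fun a _ => eX_up ψ a, Finset.sum_const, Finset.card_univ]
  conv_lhs => rw [show eX ψ * eX ψ = eX ψ * ((qq F)⁻¹ • ∑ a : F, ψ (up a)) from rfl]
  rw [mul_smul_comm, Finset.mul_sum, h1, ← Nat.cast_smul_eq_nsmul ℂ, smul_smul]
  have h2 : (qq F)⁻¹ * (Fintype.card F : ℂ) = 1 := inv_mul_cancel₀ qq_ne_zero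
  rw [h2, one_smul]

theorem hS_eX {c : F} (hc : c ≠ 0) : ψ (hS c) * eX ψ = eX ψ * ψ (hS c) := by
  rw [eX, mul_smul_comm, smul_mul_assoc, Finset.mul_sum, Finset.sum_mul]
  congr 1
  have hc2 : c ^ 2 ≠ 0 := pow_ne_zero 2 hc
  rw [← Equiv.sum_comp (Equiv.mulLeft₀ (c ^ 2) hc2) (fun a => ψ (up a) * ψ (hS c))]
  refine Finset.sum_congr rfl fun a _ => ?_
  show _ = ψ (up (c ^ 2 * a)) * ψ (hS c)
  rw [← hS_up hc, ← map_mul, ← map_mul, inv_mul_cancel_right]

theorem eta_hS {c : F} (hc : c ≠ 0) : eta ψ * ψ (hS c) = eta ψ := by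
  rw [eta, smul_mul_assoc, Finset.sum_mul]
  congr 1
  rw [← Equiv.sum_comp (Equiv.mulRight (Units.mk0 c hc)) (fun d => ψ (hS (d : F)))]
  refine Finset.sum_congr rfl fun d _ => ?_
  rw [← map_mul, ← hS_mul d.ne_zero hc]
  rfl

theorem hS_eta {c : F} (hc : c ≠ 0) : ψ (hS c) * eta ψ = eta ψ := by
  rw [eta, mul_smul_comm, Finset.mul_sum]
  congr 1
  rw [← Equiv.sum_comp (Equiv.mulLeft (Units.mk0 c hc)) (fun d => ψ (hS (d : F)))]
  refine Finset.sum_congr rfl fun d _ => ?_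
  rw [← map_mul, ← hS_mul hc d.ne_zero]
  rfl

theorem eta_eta : eta ψ * eta ψ = eta ψ := by
  have h1 : ∑ c : Fˣ, eta ψ * ψ (hS (c : F)) = (Fintype.card Fˣ : ℕ) • eta ψ := by
    rw [Finset.sum_congr rfl fun c _ => eta_hS ψ c.ne_zero, Finset.sum_const, Finset.card_univ]
  conv_lhs => rw [show eta ψ * eta ψ = eta ψ * ((qq F - 1)⁻¹ • ∑ c : Fˣ, ψ (hS (c : F))) from rfl]
  rw [mul_smul_comm, Finset.mul_sum, h1, ← Nat.cast_smul_eq_nsmul ℂ, smul_smul]
  have h2 : (Fintype.card Fˣ : ℂ) = qq F - 1 := by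
    rw [Fintype.card_units, Nat.cast_sub Fintype.card_pos, qq, Nat.cast_one]
  rw [h2, inv_mul_cancel₀ (sub_ne_zero.2 qq_ne_one), one_smul]

theorem w_eta : ψ (wS 1) * eta ψ = eta ψ * ψ (wS 1) := by
  rw [eta, mul_smul_comm, smul_mul_assoc, Finset.mul_sum, Finset.sum_mul]
  congr 1
  rw [← Equiv.sum_comp (Equiv.inv Fˣ) (fun d => ψ (hS (d : F)) * ψ (wS 1))]
  refine Finset.sum_congr rfl fun d _ => ?_
  rw [← map_mul, ← map_mul, w_hS d.ne_zero]
  simp

/-- commutes with the image -/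
theorem comm_eX {τ : A} (hτ : ∀ g, τ * ψ g = ψ g * τ) : τ * eX ψ = eX ψ * τ := by
  rw [eX, mul_smul_comm, smul_mul_assoc, Finset.mul_sum, Finset.sum_mul]
  congr 1
  exact Finset.sum_congr rfl fun a _ => hτ _

theorem comm_eta {τ : A} (hτ : ∀ c : F, c ≠ 0 → τ * ψ (hS c) = ψ (hS c) * τ) : τ * eta ψ = eta ψ * τ := by
  rw [eta, mul_smul_comm, smul_mul_assoc, Finset.mul_sum, Finset.sum_mul]
  congr 1
  exact Finset.sum_congr rfl fun a _ => hτ _ a.ne_zero

variable {ψ ε} (hεε : ε * ε = ε) (hεc : ∀ g, ε * ψ g = ψ g * ε)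

include hεε hεc

theorem uu_eps : uu ψ ε * ε = uu ψ ε := by rw [uu, mul_assoc, hεε]

theorem eps_uu : ε * uu ψ ε = uu ψ ε := by rw [uu, ← mul_assoc, comm_eX ψ hεc, mul_assoc, hεε]

theorem up_uu (b : F) : ψ (up b) * uu ψ ε = uu ψ ε := by rw [uu, ← mul_assoc, up_eX]

theorem uu_up (b : F) : uu ψ ε * ψ (up b) = uu ψ ε := by rw [uu, mul_assoc, hεc, ← mul_assoc, eX_up]

theorem uu_uu : uu ψ ε * uu ψ ε = uu ψ ε := by
  rw [uu, mul_assoc, ← mul_assoc ε, comm_eX ψ hεc, mul_assoc (eX ψ) ε ε, hεε, ← mul_assoc, eX_eX]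

theorem hS_uu {c : F} (hc : c ≠ 0) : ψ (hS c) * uu ψ ε = uu ψ ε * ψ (hS c) := by
  rw [uu, ← mul_assoc, hS_eX ψ hc, mul_assoc, ← hεc, mul_assoc]

theorem eta_uu : eta ψ * uu ψ ε = uu ψ ε * eta ψ :=
  (comm_eta ψ fun _ hc => (hS_uu hεε hεc hc).symm).symm

/-- conjugates of `u` -/
theorem conj_uu {g x x' D : Matrix.SpecialLinearGroup (Fin 2) F} (h : g * x = x' * D)
    (hD : ψ D * uu ψ ε = uu ψ ε * ψ D) :
    ψ g * (ψ x * uu ψ ε * ψ x⁻¹) = ψ x' * uu ψ ε * ψ x'⁻¹ * ψ g := by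
  have h1 : D * x⁻¹ = x'⁻¹ * g := by
    rw [mul_inv_eq_iff_eq_mul, mul_assoc, h, inv_mul_cancel_left]
  calc ψ g * (ψ x * uu ψ ε * ψ x⁻¹) = ψ (g * x) * uu ψ ε * ψ x⁻¹ := by rw [map_mul]; simp only [mul_assoc]
    _ = ψ x' * (ψ D * uu ψ ε) * ψ x⁻¹ := by rw [h, map_mul]; simp only [mul_assoc]
    _ = ψ x' * uu ψ ε * ψ (D * x⁻¹) := by rw [hD, map_mul]; simp only [mul_assoc]
    _ = _ := by rw [h1, map_mul]; simp only [mul_assoc]

theorem comm_tri {c : F} (hc : c ≠ 0) (b : F) : ψ (hS c * up b) * uu ψ ε = uu ψ ε * ψ (hS c * up b) := by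
  rw [map_mul, mul_assoc, up_uu hεε hεc, hS_uu hεε hεc hc, ← mul_assoc, ← hS_uu hεε hεc hc, mul_assoc,
    uu_up hεε hεc, hS_uu hεε hεc hc]

theorem ZZ_up (b : F) : ψ (up b) * ZZ ψ ε = ZZ ψ ε * ψ (up b) := by
  rw [ZZ, mul_add, add_mul, up_uu hεε hεc, uu_up hεε hεc, Finset.mul_sum, Finset.sum_mul]
  congr 1
  rw [← Equiv.sum_comp (Equiv.addLeft b) (fun a => Zt ψ ε a * ψ (up b))]
  refine Finset.sum_congr rfl fun a _ => ?_
  show ψ (up b) * Zt ψ ε a = Zt ψ ε (b + a) * ψ (up b)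
  exact conj_uu hεε hεc (x := up a * wS 1) (x' := up (b + a) * wS 1) (D := 1)
    (by rw [mul_one, up_add, mul_assoc]) (by rw [map_one, one_mul, mul_one])

theorem Zt_zero : Zt ψ ε 0 = ψ (wS 1) * uu ψ ε * ψ (wS 1)⁻¹ := by rw [Zt, up_zero, one_mul]

theorem ZZ_w : ψ (wS 1) * ZZ ψ ε = ZZ ψ ε * ψ (wS 1) := by
  rw [ZZ, sum_units]
  have h1 : ψ (wS 1) * uu ψ ε = Zt ψ ε 0 * ψ (wS 1) := by
    rw [Zt_zero hεε hεc, mul_assoc, ← map_mul, inv_mul_cancel, map_one, mul_one]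
  have h2 : ψ (wS 1) * Zt ψ ε 0 = uu ψ ε * ψ (wS 1) := by
    have h3 := conj_uu (ψ := ψ) (ε := ε) hεε hεc (g := wS 1) (x := wS 1) (x' := 1) (D := hS (-1))
      (by rw [one_mul, w_sq]) (hS_uu hεε hεc (neg_ne_zero.2 one_ne_zero))
    rw [Zt_zero hεε hεc, h3, map_one, one_mul, inv_one, map_one, mul_one]
  have h3 : ∀ c : Fˣ, ψ (wS 1) * Zt ψ ε (c : F) = Zt ψ ε ((-c⁻¹ : Fˣ) : F) * ψ (wS 1) := by
    intro c
    have h4 : (((-c⁻¹ : Fˣ)) : F) = -(c : F)⁻¹ := by simp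
    rw [h4]
    exact conj_uu hεε hεc (x := up (c : F) * wS 1) (x' := up (-(c : F)⁻¹) * wS 1) (D := hS (-(c : F)) * up (-(c : F)⁻¹))
      (by rw [← mul_assoc, w_up_w c.ne_zero]) (comm_tri hεε hεc (neg_ne_zero.2 c.ne_zero) _)
  have h4 : ψ (wS 1) * ∑ c : Fˣ, Zt ψ ε (c : F) = (∑ c : Fˣ, Zt ψ ε (c : F)) * ψ (wS 1) := by
    rw [Finset.mul_sum, Finset.sum_mul, Finset.sum_congr rfl fun c _ => h3 c]
    exact Equiv.sum_comp ((Equiv.inv Fˣ).trans (Equiv.neg Fˣ)) (fun c => Zt ψ ε (c : F) * ψ (wS 1))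
  rw [mul_add, mul_add, add_mul, add_mul, h1, h2, h4]
  abel

theorem ZZ_comm (g : Matrix.SpecialLinearGroup (Fin 2) F) : ZZ ψ ε * ψ g = ψ g * ZZ ψ ε := by
  have h1 : ∀ g, ψ g * ZZ ψ ε = ZZ ψ ε * ψ g → ψ g⁻¹ * ZZ ψ ε = ZZ ψ ε * ψ g⁻¹ := by
    intro g hg
    calc ψ g⁻¹ * ZZ ψ ε = ψ g⁻¹ * (ZZ ψ ε * ψ g) * ψ g⁻¹ := by
          rw [mul_assoc, mul_assoc, ← map_mul ψ g, mul_inv_cancel, map_one, mul_one]
      _ = _ := by rw [← hg, ← mul_assoc, ← map_mul, inv_mul_cancel, map_one, one_mul]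
  have h2 := mem_closure_SL2 g
  induction h2 using Subgroup.closure_induction with
  | mem x hx =>
    rcases hx with ⟨a, rfl⟩ | ⟨a, rfl⟩
    · exact (ZZ_up hεε hεc a).symm
    · have h3 := h1 _ (ZZ_w (ψ := ψ) hεε hεc)
      rw [lo_eq, map_mul, map_mul, ← mul_assoc, ← mul_assoc, ← h3, mul_assoc _ (ZZ ψ ε), ← ZZ_up hεε hεc,
        mul_assoc, mul_assoc, mul_assoc, ← ZZ_w hεε hεc]
      simp only [mul_assoc]
  | one => rw [map_one, one_mul, mul_one]
  | mul x y _ _ hx hy => rw [map_mul, ← mul_assoc, hx, mul_assoc, hy, ← mul_assoc]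
  | inv x _ hx => exact (h1 x hx.symm).symm


theorem th_eq : th ψ ε = uu ψ ε * ψ (wS 1) * uu ψ ε := rfl

theorem uu_th : uu ψ ε * th ψ ε = th ψ ε := by rw [th, ← mul_assoc, ← mul_assoc, uu_uu hεε hεc]
theorem th_uu : th ψ ε * uu ψ ε = th ψ ε := by rw [th, mul_assoc, uu_uu hεε hεc]

theorem th_hS {c : F} (hc : c ≠ 0) : uu ψ ε * ψ (wS 1) * (ψ (hS c) * uu ψ ε) = th ψ ε * ψ (hS c) := by
  rw [hS_uu hεε hεc hc, th, mul_assoc, mul_assoc, mul_assoc]

theorem th_eta : th ψ ε * eta ψ = eta ψ * th ψ ε := by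
  rw [th, mul_assoc, ← eta_uu hεε hεc, ← mul_assoc, mul_assoc (uu ψ ε), w_eta, ← mul_assoc, ← eta_uu hεε hεc,
    mul_assoc, mul_assoc, mul_assoc]

/-- `θ θ'` -/
theorem th_th' : uu ψ ε * ψ (wS 1) * uu ψ ε * ψ (wS 1)⁻¹ * uu ψ ε =
    (qq F)⁻¹ • (uu ψ ε + (qq F - 1) • (th ψ ε * eta ψ)) := by
  have h1 : uu ψ ε * ψ (wS 1) * uu ψ ε * ψ (wS 1)⁻¹ * uu ψ ε =
      uu ψ ε * ψ (wS 1) * eX ψ * ψ (wS 1)⁻¹ * uu ψ ε := by
    conv_lhs => rw [show uu ψ ε * ψ (wS 1) * uu ψ ε = uu ψ ε * ψ (wS 1) * (eX ψ * ε) from rfl]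
    rw [← mul_assoc, mul_assoc _ ε, hεc, mul_assoc _ _ (uu ψ ε), mul_assoc (ψ _) ε, eps_uu hεε hεc, ← mul_assoc]
  have h2 : uu ψ ε * ψ (wS 1) * eX ψ * ψ (wS 1)⁻¹ * uu ψ ε =
      (qq F)⁻¹ • ∑ a : F, uu ψ ε * ψ (wS 1 * up a * (wS 1)⁻¹) * uu ψ ε := by
    rw [eX, mul_smul_comm, smul_mul_assoc, smul_mul_assoc, Finset.mul_sum, Finset.sum_mul, Finset.sum_mul]
    congr 1
    refine Finset.sum_congr rfl fun a _ => ?_
    rw [map_mul, map_mul]
    simp only [mul_assoc]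
  rw [h1, h2, sum_units]
  congr 1
  congr 1
  · rw [up_zero, mul_one, mul_inv_cancel, map_one, mul_one, uu_uu hεε hεc]
  · rw [← mul_smul_comm, ← sum_hS, Finset.mul_sum]
    refine Finset.sum_congr rfl fun c _ => ?_
    rw [w_up_winv c.ne_zero, map_mul, map_mul, map_mul, ← th_hS hεε hεc c.ne_zero]
    calc uu ψ ε * (ψ (up (-(c : F)⁻¹)) * ψ (wS 1) * (ψ (hS (c : F)) * ψ (up (-(c : F)⁻¹)))) * uu ψ ε
        = (uu ψ ε * ψ (up (-(c : F)⁻¹))) * ψ (wS 1) * (ψ (hS (c : F)) * (ψ (up (-(c : F)⁻¹)) * uu ψ ε)) := by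
          simp only [mul_assoc]
      _ = _ := by rw [uu_up hεε hεc, up_uu hεε hεc]

/-- `Z u = 2 u + (q - 1) θ η` -/
theorem ZZ_uu : ZZ ψ ε * uu ψ ε = (2 : ℂ) • uu ψ ε + (qq F - 1) • (th ψ ε * eta ψ) := by
  have h1 : ∀ a : F, Zt ψ ε a * uu ψ ε = ψ (up a) * (ψ (wS 1) * uu ψ ε * ψ (wS 1)⁻¹ * uu ψ ε) := by
    intro a
    rw [Zt, mul_inv_rev, map_mul, map_mul, ← up_neg]
    calc ψ (up a) * ψ (wS 1) * uu ψ ε * (ψ (wS 1)⁻¹ * ψ (up (-a))) * uu ψ ε =
        ψ (up a) * (ψ (wS 1) * uu ψ ε * ψ (wS 1)⁻¹ * (ψ (up (-a)) * uu ψ ε)) := by simp only [mul_assoc]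
      _ = _ := by rw [up_uu hεε hεc]
  have h2 : eX ψ * (ψ (wS 1) * uu ψ ε * ψ (wS 1)⁻¹ * uu ψ ε) = uu ψ ε * ψ (wS 1) * uu ψ ε * ψ (wS 1)⁻¹ * uu ψ ε := by
    have h3 : ψ (wS 1) * uu ψ ε = ε * (ψ (wS 1) * uu ψ ε) := by
      rw [← mul_assoc, hεc, mul_assoc, eps_uu hεε hεc]
    rw [h3]
    conv_rhs => rw [mul_assoc, mul_assoc, mul_assoc]
    rw [show uu ψ ε * (ψ (wS 1) * (uu ψ ε * (ψ (wS 1)⁻¹ * uu ψ ε))) =
      eX ψ * ε * (ψ (wS 1) * (uu ψ ε * (ψ (wS 1)⁻¹ * uu ψ ε))) from rfl]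
    simp only [mul_assoc]
  rw [ZZ, add_mul, uu_uu hεε hεc, Finset.sum_mul, Finset.sum_congr rfl fun a _ => h1 a, ← Finset.sum_mul, sum_up,
    smul_mul_assoc, h2, th_th' hεε hεc, smul_smul, mul_inv_cancel₀ qq_ne_zero, one_smul]
  module

/-- the quadratic relation -/
theorem th_quad : th ψ ε * th ψ ε * eta ψ = (qq F)⁻¹ • (uu ψ ε * eta ψ + (qq F - 1) • (th ψ ε * eta ψ)) := by
  have h1 := congrArg (fun x => x * eta ψ) (th_th' hεε hεc)
  simp only [smul_mul_assoc, add_mul] at h1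
  rw [mul_assoc (th ψ ε), eta_eta] at h1
  rw [← h1]
  have h2 : ψ (wS 1) * (uu ψ ε * eta ψ) = ψ (wS 1)⁻¹ * (uu ψ ε * eta ψ) := by
    have h3 : (wS 1 : Matrix.SpecialLinearGroup (Fin 2) F) = (wS 1)⁻¹ * hS (-1) := by
      rw [← w_sq, inv_mul_cancel_left]
    conv_lhs => rw [h3]
    rw [map_mul, mul_assoc, ← eta_uu hεε hεc, ← mul_assoc (ψ (hS (-1))), hS_eta ψ (neg_ne_zero.2 one_ne_zero)]
  rw [th]
  calc uu ψ ε * ψ (wS 1) * uu ψ ε * (uu ψ ε * ψ (wS 1) * uu ψ ε) * eta ψ =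
      uu ψ ε * ψ (wS 1) * (uu ψ ε * uu ψ ε) * (ψ (wS 1) * (uu ψ ε * eta ψ)) := by simp only [mul_assoc]
    _ = _ := by rw [uu_uu hεε hεc, h2]; simp only [mul_assoc]

variable (ψ ε)

omit hεε hεc in
/-- the projection onto the eigenvalue 1 of `θ` -/
noncomputable def piA : A := (qq F + 1)⁻¹ • (qq F • (th ψ ε * eta ψ) + uu ψ ε * eta ψ)
omit hεε hεc in
/-- the projection onto the eigenvalue `-1/q` of `θ` -/
noncomputable def piS : A := (qq F + 1)⁻¹ • (qq F • (uu ψ ε * eta ψ - th ψ ε * eta ψ))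
omit hεε hεc in
noncomputable def piP : A := uu ψ ε - uu ψ ε * eta ψ

variable {ψ ε}

omit hεε hεc in
theorem pi_sum : piA ψ ε + piS ψ ε + piP ψ ε = uu ψ ε := by
  rw [piA, piS, piP]
  have := qq_add_ne (F := F)
  match_scalars <;> field_simp <;> ring

theorem eta_piA : eta ψ * piA ψ ε = piA ψ ε := by
  rw [piA, mul_smul_comm, mul_add, mul_smul_comm, ← mul_assoc, ← mul_assoc, ← th_eta hεε hεc, mul_assoc, eta_eta,
    eta_uu hεε hεc, mul_assoc, eta_eta]

theorem eta_piS : eta ψ * piS ψ ε = piS ψ ε := by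
  rw [piS, mul_smul_comm, mul_smul_comm, mul_sub, ← mul_assoc, ← mul_assoc, ← th_eta hεε hεc, mul_assoc (th ψ ε),
    eta_eta, eta_uu hεε hεc, mul_assoc, eta_eta]

theorem eta_piP : eta ψ * piP ψ ε = 0 := by
  rw [piP, mul_sub, ← mul_assoc, eta_uu hεε hεc, mul_assoc, eta_eta, sub_self]

theorem uu_piA : uu ψ ε * piA ψ ε = piA ψ ε := by
  rw [piA, mul_smul_comm, mul_add, mul_smul_comm, ← mul_assoc, ← mul_assoc, uu_th hεε hεc, uu_uu hεε hεc]
theorem uu_piS : uu ψ ε * piS ψ ε = piS ψ ε := by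
  rw [piS, mul_smul_comm, mul_smul_comm, mul_sub, ← mul_assoc, ← mul_assoc, uu_th hεε hεc, uu_uu hεε hεc]
theorem uu_piP : uu ψ ε * piP ψ ε = piP ψ ε := by
  rw [piP, mul_sub, ← mul_assoc, uu_uu hεε hεc]

theorem piA_uu : piA ψ ε * uu ψ ε = piA ψ ε := by
  rw [piA, smul_mul_assoc, add_mul, smul_mul_assoc, mul_assoc, mul_assoc, eta_uu hεε hεc, ← mul_assoc, ← mul_assoc,
    th_uu hεε hεc, uu_uu hεε hεc]
theorem piS_uu : piS ψ ε * uu ψ ε = piS ψ ε := by
  rw [piS, smul_mul_assoc, smul_mul_assoc, sub_mul, mul_assoc, mul_assoc, eta_uu hεε hεc, ← mul_assoc, ← mul_assoc,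
    th_uu hεε hεc, uu_uu hεε hεc]
theorem piP_uu : piP ψ ε * uu ψ ε = piP ψ ε := by
  rw [piP, sub_mul, mul_assoc, eta_uu hεε hεc, ← mul_assoc, uu_uu hεε hεc]

theorem th_th_eta : th ψ ε * (th ψ ε * eta ψ) = (qq F)⁻¹ • (uu ψ ε * eta ψ + (qq F - 1) • (th ψ ε * eta ψ)) := by
  rw [← mul_assoc, th_quad hεε hεc]

theorem th_piA : th ψ ε * piA ψ ε = piA ψ ε := by
  rw [piA, mul_smul_comm, mul_add, mul_smul_comm, th_th_eta hεε hεc, ← mul_assoc (th ψ ε) (uu ψ ε), th_uu hεε hεc]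
  have h1 := qq_add_ne (F := F)
  have h2 := qq_ne_zero (F := F)
  match_scalars <;> field_simp <;> ring

theorem th_piS : th ψ ε * piS ψ ε = (-(qq F)⁻¹) • piS ψ ε := by
  rw [piS, mul_smul_comm, mul_smul_comm, mul_sub, th_th_eta hεε hεc, ← mul_assoc (th ψ ε) (uu ψ ε), th_uu hεε hεc]
  have h1 := qq_add_ne (F := F)
  have h2 := qq_ne_zero (F := F)
  match_scalars <;> field_simp <;> ring

theorem ZZ_piA : ZZ ψ ε * piA ψ ε = (qq F + 1) • piA ψ ε := by
  conv_lhs => rw [← uu_piA hεε hεc]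
  rw [← mul_assoc, ZZ_uu hεε hεc, add_mul, smul_mul_assoc, smul_mul_assoc, uu_piA hεε hεc, mul_assoc,
    eta_piA hεε hεc, th_piA hεε hεc]
  module

theorem ZZ_piS : ZZ ψ ε * piS ψ ε = (1 + (qq F)⁻¹) • piS ψ ε := by
  conv_lhs => rw [← uu_piS hεε hεc]
  rw [← mul_assoc, ZZ_uu hεε hεc, add_mul, smul_mul_assoc, smul_mul_assoc, uu_piS hεε hεc, mul_assoc,
    eta_piS hεε hεc, th_piS hεε hεc]
  have h2 := qq_ne_zero (F := F)
  match_scalars
  field_simp
  ring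

theorem ZZ_piP : ZZ ψ ε * piP ψ ε = (2 : ℂ) • piP ψ ε := by
  conv_lhs => rw [← uu_piP hεε hεc]
  rw [← mul_assoc, ZZ_uu hεε hεc, add_mul, smul_mul_assoc, smul_mul_assoc, uu_piP hεε hεc, mul_assoc,
    eta_piP hεε hεc, mul_zero, smul_zero, add_zero]

theorem ZZ_pow_uu (k : ℕ) : ZZ ψ ε ^ k * uu ψ ε =
    (qq F + 1) ^ k • piA ψ ε + (1 + (qq F)⁻¹) ^ k • piS ψ ε + (2 : ℂ) ^ k • piP ψ ε := by
  induction k with
  | zero => rw [pow_zero, one_mul, pow_zero, pow_zero, pow_zero, one_smul, one_smul, one_smul, pi_sum]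
  | succ k ih =>
    rw [pow_succ', mul_assoc, ih, mul_add, mul_add, mul_smul_comm, mul_smul_comm, mul_smul_comm, ZZ_piA hεε hεc,
      ZZ_piS hεε hεc, ZZ_piP hεε hεc]
    module

theorem ZZ_pow_comm (k : ℕ) (g : Matrix.SpecialLinearGroup (Fin 2) F) :
    ZZ ψ ε ^ k * ψ g = ψ g * ZZ ψ ε ^ k := by
  have h1 : Commute (ZZ ψ ε) (ψ g) := ZZ_comm hεε hεc g
  exact h1.pow_left k

omit [DecidableEq F] hεε hεc in
theorem recur {F0 F1 F2 F3 a s p c1 c2 : ℂ} (h1 : c1 ≠ 0) (h2 : c2 ≠ 0) {Q : ℂ}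
    (e1 : F1 = Q * (a + s + p)) (e2 : F2 = Q * (c1 * a + c2 * s + 2 * p))
    (e3 : F3 = Q * (c1 ^ 2 * a + c2 ^ 2 * s + 4 * p))
    (e : F3 - (c1 + c2 + 2) * F2 + (c1 * c2 + 2 * c1 + 2 * c2) * F1 - 2 * c1 * c2 * F0 = 0) :
    F0 = Q * (a / c1 + s / c2 + p / 2) := by
  subst e1 e2 e3
  have h3 : 2 * c1 * c2 * F0 = 2 * c1 * c2 * (Q * (a / c1 + s / c2 + p / 2)) := by
    field_simp
    linear_combination -e
  exact mul_left_cancel₀ (mul_ne_zero (mul_ne_zero two_ne_zero h1) h2) h3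

/-- the cubic relation -/
theorem cubic (hgen : ∀ y : A, (∀ g, y * (ψ g * uu ψ ε) = 0) → y * ε = 0) :
    ZZ ψ ε ^ 3 * ε - (qq F + 1 + (1 + (qq F)⁻¹) + 2) • (ZZ ψ ε ^ 2 * ε) +
      ((qq F + 1) * (1 + (qq F)⁻¹) + 2 * (qq F + 1) + 2 * (1 + (qq F)⁻¹)) • (ZZ ψ ε * ε) -
      (2 * (qq F + 1) * (1 + (qq F)⁻¹)) • ε = 0 := by
  have h1 := hgen (ZZ ψ ε ^ 3 - (qq F + 1 + (1 + (qq F)⁻¹) + 2) • ZZ ψ ε ^ 2 +
      ((qq F + 1) * (1 + (qq F)⁻¹) + 2 * (qq F + 1) + 2 * (1 + (qq F)⁻¹)) • ZZ ψ ε ^ 1 -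
      (2 * (qq F + 1) * (1 + (qq F)⁻¹)) • ZZ ψ ε ^ 0) ?_
  · rw [← h1]
    simp only [sub_mul, add_mul, smul_mul_assoc, pow_one, pow_zero, one_mul]
  · intro g
    simp only [sub_mul, add_mul, smul_mul_assoc, ← mul_assoc, ZZ_pow_comm hεε hεc]
    simp only [mul_assoc, ZZ_pow_uu hεε hεc]
    simp only [← mul_smul_comm, ← mul_add, ← mul_sub]
    convert mul_zero (ψ g) using 2
    match_scalars <;> ring


theorem ZZ_eps : ZZ ψ ε * ε = ZZ ψ ε := by
  rw [ZZ, add_mul, uu_eps hεε hεc, Finset.sum_mul]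
  congr 1
  refine Finset.sum_congr rfl fun a _ => ?_
  rw [Zt, mul_assoc, ← hεc, ← mul_assoc, mul_assoc (ψ _) (uu ψ ε) ε, uu_eps hεε hεc]

section Trace

variable (tr : A →ₗ[ℂ] ℂ) (htr : ∀ x y, tr (x * y) = tr (y * x)) {τ : A} (hτ : ∀ g, τ * ψ g = ψ g * τ)

include htr hτ

theorem tr_conj (k : ℕ) (B x : Matrix.SpecialLinearGroup (Fin 2) F) :
    tr (τ * ψ B * ZZ ψ ε ^ k * (ψ x * uu ψ ε * ψ x⁻¹)) = tr (τ * ψ (x⁻¹ * B * x) * (ZZ ψ ε ^ k * uu ψ ε)) := by
  rw [← mul_assoc, htr]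
  congr 1
  calc ψ x⁻¹ * (τ * ψ B * ZZ ψ ε ^ k * (ψ x * uu ψ ε)) =
      (ψ x⁻¹ * τ) * ψ B * (ZZ ψ ε ^ k * ψ x) * uu ψ ε := by simp only [mul_assoc]
    _ = _ := by rw [← hτ, ZZ_pow_comm hεε hεc, map_mul, map_mul]; simp only [mul_assoc]

theorem tr_succ (k : ℕ) (B : Matrix.SpecialLinearGroup (Fin 2) F) :
    tr (τ * ψ B * (ZZ ψ ε ^ (k + 1) * ε)) = tr (τ * ψ B * (ZZ ψ ε ^ k * uu ψ ε)) +
      ∑ a : F, tr (τ * ψ ((up a * wS 1)⁻¹ * B * (up a * wS 1)) * (ZZ ψ ε ^ k * uu ψ ε)) := by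
  rw [pow_succ, mul_assoc (ZZ ψ ε ^ k), ZZ_eps hεε hεc]
  conv_lhs => rw [show ZZ ψ ε ^ k * ZZ ψ ε = ZZ ψ ε ^ k * (uu ψ ε + ∑ a : F, Zt ψ ε a) from rfl]
  rw [mul_add, mul_add, map_add, Finset.mul_sum, Finset.mul_sum, map_sum]
  congr 1
  refine Finset.sum_congr rfl fun a _ => ?_
  rw [← tr_conj hεε hεc tr htr hτ, Zt]
  simp only [mul_assoc]

theorem tr_expand (k : ℕ) (B : Matrix.SpecialLinearGroup (Fin 2) F) :
    tr (τ * ψ B * (ZZ ψ ε ^ k * uu ψ ε)) = (qq F + 1) ^ k * tr (τ * ψ B * piA ψ ε) +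
      (1 + (qq F)⁻¹) ^ k * tr (τ * ψ B * piS ψ ε) + (2 : ℂ) ^ k * tr (τ * ψ B * piP ψ ε) := by
  rw [ZZ_pow_uu hεε hεc, mul_add, mul_add, mul_smul_comm, mul_smul_comm, mul_smul_comm, map_add, map_add,
    map_smul, map_smul, map_smul, smul_eq_mul, smul_eq_mul, smul_eq_mul]

variable (hτε : τ * ε = ε * τ)

include hτε

theorem tr_reduce {π : A} (h1 : uu ψ ε * π = π) (h2 : π * uu ψ ε = π) {B : Matrix.SpecialLinearGroup (Fin 2) F}
    (hB : B.1 1 0 ≠ 0) : ∃ c : F, c ≠ 0 ∧ tr (τ * ψ B * π) = tr (τ * (ψ (hS c) * (th ψ ε * π))) := by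
  have hc : -(B.1 1 0)⁻¹ ≠ 0 := neg_ne_zero.2 (inv_ne_zero hB)
  refine ⟨_, hc, ?_⟩
  have hτu : τ * uu ψ ε = uu ψ ε * τ := by
    rw [uu, ← mul_assoc, comm_eX ψ hτ, mul_assoc, hτε, mul_assoc]
  have e := eq_of_ne_zero hB
  have h3 : uu ψ ε * ψ B * uu ψ ε = ψ (hS (-(B.1 1 0)⁻¹)) * th ψ ε := by
    conv_lhs => rw [e]
    rw [map_mul, map_mul, map_mul, th]
    calc uu ψ ε * (ψ (up (B.1 0 0 / B.1 1 0)) * (ψ (hS (-(B.1 1 0)⁻¹)) * ψ (wS 1)) * ψ (up (B.1 1 1 / B.1 1 0))) * uu ψ ε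
        = (uu ψ ε * ψ (up (B.1 0 0 / B.1 1 0))) * (ψ (hS (-(B.1 1 0)⁻¹)) * ψ (wS 1)) *
          (ψ (up (B.1 1 1 / B.1 1 0)) * uu ψ ε) := by simp only [mul_assoc]
      _ = (uu ψ ε * ψ (hS (-(B.1 1 0)⁻¹))) * ψ (wS 1) * uu ψ ε := by
          rw [uu_up hεε hεc, up_uu hεε hεc]; simp only [mul_assoc]
      _ = _ := by rw [← hS_uu hεε hεc hc]; simp only [mul_assoc]
  calc tr (τ * ψ B * π) = tr (τ * ψ B * (uu ψ ε * π * uu ψ ε)) := by rw [h1, h2]
    _ = tr (uu ψ ε * (τ * ψ B * (uu ψ ε * π))) := by rw [← mul_assoc _ _ (uu ψ ε), htr]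
    _ = tr (τ * (uu ψ ε * ψ B * uu ψ ε) * π) := by
        congr 1
        calc uu ψ ε * (τ * ψ B * (uu ψ ε * π)) = (uu ψ ε * τ) * ψ B * (uu ψ ε * π) := by simp only [mul_assoc]
          _ = _ := by rw [← hτu]; simp only [mul_assoc]
    _ = _ := by rw [h3]; simp only [mul_assoc]

theorem tr_piA {B : Matrix.SpecialLinearGroup (Fin 2) F} (hB : B.1 1 0 ≠ 0) :
    tr (τ * ψ B * piA ψ ε) = tr (τ * piA ψ ε) := by
  obtain ⟨c, hc, h⟩ := tr_reduce hεε hεc tr htr hτ hτε (uu_piA hεε hεc) (piA_uu hεε hεc) hB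
  rw [h, th_piA hεε hεc]
  conv_lhs => rw [← eta_piA hεε hεc, ← mul_assoc (ψ _), hS_eta ψ hc, eta_piA hεε hεc]

theorem tr_piS {B : Matrix.SpecialLinearGroup (Fin 2) F} (hB : B.1 1 0 ≠ 0) :
    tr (τ * ψ B * piS ψ ε) = -(qq F)⁻¹ * tr (τ * piS ψ ε) := by
  obtain ⟨c, hc, h⟩ := tr_reduce hεε hεc tr htr hτ hτε (uu_piS hεε hεc) (piS_uu hεε hεc) hB
  rw [h, th_piS hεε hεc]
  have h1 : ψ (hS c) * piS ψ ε = piS ψ ε := by
    conv_lhs => rw [← eta_piS hεε hεc, ← mul_assoc, hS_eta ψ hc, eta_piS hεε hεc]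
  rw [mul_smul_comm, h1, mul_smul_comm, map_smul, smul_eq_mul]

theorem tr_piP (hT : ∀ d : F, d ≠ 0 → ∃ t t' : A, t * t' = 1 ∧ t' * t = 1 ∧ t * τ = τ * t ∧
      (∀ c : F, c ≠ 0 → t * ψ (hS c) = ψ (hS c) * t) ∧ t * uu ψ ε = uu ψ ε * t ∧
      t * ψ (wS 1) = ψ (wS 1) * ψ (hS d) * t) {B : Matrix.SpecialLinearGroup (Fin 2) F} (hB : B.1 1 0 ≠ 0) :
    tr (τ * ψ B * piP ψ ε) = 0 := by
  obtain ⟨c, hc, h⟩ := tr_reduce hεε hεc tr htr hτ hτε (uu_piP hεε hεc) (piP_uu hεε hεc) hB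
  rw [h]
  have h1 : ∀ d : Fˣ, tr (τ * (ψ (hS c) * (th ψ ε * piP ψ ε))) =
      tr (τ * (ψ (hS c) * (th ψ ε * (ψ (hS (d : F)) * piP ψ ε)))) := by
    intro d
    obtain ⟨t, t', h2, h3, h4, h5, h6, h7⟩ := hT d d.ne_zero
    have h8 : t * th ψ ε = th ψ ε * ψ (hS (d : F)) * t := by
      rw [th, ← mul_assoc, ← mul_assoc, h6, mul_assoc _ t, h7, ← mul_assoc, ← mul_assoc, mul_assoc _ t, h6,
        ← mul_assoc, mul_assoc (uu ψ ε * ψ (wS 1)), hS_uu hεε hεc d.ne_zero]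
      simp only [mul_assoc]
    have h9 : t * piP ψ ε = piP ψ ε * t := by
      rw [piP, mul_sub, sub_mul, h6, ← mul_assoc, h6, mul_assoc, comm_eta ψ h5, mul_assoc]
    calc tr (τ * (ψ (hS c) * (th ψ ε * piP ψ ε))) = tr (τ * (ψ (hS c) * (th ψ ε * piP ψ ε)) * (t' * t)) := by
          rw [h3, mul_one]
      _ = tr (t * (τ * (ψ (hS c) * (th ψ ε * piP ψ ε)) * t')) := by rw [← mul_assoc, htr]
      _ = tr (τ * (ψ (hS c) * (th ψ ε * (ψ (hS (d : F)) * piP ψ ε)))) := by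
          congr 1
          calc t * (τ * (ψ (hS c) * (th ψ ε * piP ψ ε)) * t') =
              (t * τ) * (ψ (hS c) * (th ψ ε * piP ψ ε)) * t' := by simp only [mul_assoc]
            _ = τ * (t * ψ (hS c)) * (th ψ ε * piP ψ ε) * t' := by rw [h4]; simp only [mul_assoc]
            _ = τ * ψ (hS c) * (t * th ψ ε) * piP ψ ε * t' := by rw [h5 c hc]; simp only [mul_assoc]
            _ = τ * ψ (hS c) * (th ψ ε * ψ (hS (d : F))) * (t * piP ψ ε) * t' := by rw [h8]; simp only [mul_assoc]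
            _ = τ * ψ (hS c) * (th ψ ε * ψ (hS (d : F))) * piP ψ ε * (t * t') := by rw [h9]; simp only [mul_assoc]
            _ = _ := by rw [h2, mul_one]; simp only [mul_assoc]
  have h2 : ∑ d : Fˣ, tr (τ * (ψ (hS c) * (th ψ ε * (ψ (hS (d : F)) * piP ψ ε)))) = 0 := by
    rw [← map_sum, ← Finset.mul_sum, ← Finset.mul_sum, ← Finset.mul_sum, ← Finset.sum_mul, sum_hS, smul_mul_assoc,
      eta_piP hεε hεc, smul_zero, mul_zero, mul_zero, mul_zero, map_zero]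
  rw [← Finset.sum_congr rfl fun d _ => h1 d, Finset.sum_const, nsmul_eq_mul, mul_eq_zero] at h2
  refine h2.resolve_left ?_
  rw [Nat.cast_eq_zero, Finset.card_univ]
  exact Fintype.card_ne_zero

/-- **the trace formula of rank one** -/
theorem trace_elliptic (hgen : ∀ y : A, (∀ g, y * (ψ g * uu ψ ε) = 0) → y * ε = 0)
    (hT : ∀ d : F, d ≠ 0 → ∃ t t' : A, t * t' = 1 ∧ t' * t = 1 ∧ t * τ = τ * t ∧
      (∀ c : F, c ≠ 0 → t * ψ (hS c) = ψ (hS c) * t) ∧ t * uu ψ ε = uu ψ ε * t ∧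
      t * ψ (wS 1) = ψ (wS 1) * ψ (hS d) * t) {B : Matrix.SpecialLinearGroup (Fin 2) F} (hB : Ellip B) :
    tr (τ * ψ B * ε) = tr (τ * piA ψ ε) - tr (τ * piS ψ ε) := by
  have hB0 : B.1 1 0 ≠ 0 := by
    have := hB 1
    rwa [inv_one, one_mul, mul_one] at this
  have h1 : ∀ k : ℕ, tr (τ * ψ B * (ZZ ψ ε ^ (k + 1) * ε)) = (qq F + 1) * ((qq F + 1) ^ k * tr (τ * piA ψ ε) +
      (1 + (qq F)⁻¹) ^ k * (-(qq F)⁻¹ * tr (τ * piS ψ ε)) + (2 : ℂ) ^ k * 0) := by
    intro k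
    rw [tr_succ hεε hεc tr htr hτ, tr_expand hεε hεc tr htr hτ, tr_piA hεε hεc tr htr hτ hτε hB0,
      tr_piS hεε hεc tr htr hτ hτε hB0, tr_piP hεε hεc tr htr hτ hτε hT hB0]
    rw [Finset.sum_congr rfl (g := fun _ => (qq F + 1) ^ k * tr (τ * piA ψ ε) +
      (1 + (qq F)⁻¹) ^ k * (-(qq F)⁻¹ * tr (τ * piS ψ ε)) + (2 : ℂ) ^ k * 0) fun a _ => ?_]
    · rw [Finset.sum_const, Finset.card_univ, nsmul_eq_mul]
      show _ + qq F * _ = _
      ring
    · rw [tr_expand hεε hεc tr htr hτ, tr_piA hεε hεc tr htr hτ hτε (hB _),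
        tr_piS hεε hεc tr htr hτ hτε (hB _), tr_piP hεε hεc tr htr hτ hτε hT (hB _)]
  have h2 := h1 0
  have h3 := h1 1
  have h4 := h1 2
  have hcub := congrArg (fun x => tr (τ * ψ B * x)) (cubic hεε hεc hgen)
  simp only [mul_sub, mul_add, map_sub, map_add, mul_smul_comm, map_smul, smul_eq_mul, mul_zero, map_zero] at hcub
  have hq := qq_ne_zero (F := F)
  have hq1 := qq_add_ne (F := F)
  have hq2 : 1 + (qq F)⁻¹ ≠ 0 := by
    intro h
    apply hq1
    field_simp at h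
    rw [h, mul_zero]
  have h5 := recur (F0 := tr (τ * ψ B * ε)) (F1 := tr (τ * ψ B * (ZZ ψ ε * ε))) (F2 := tr (τ * ψ B * (ZZ ψ ε ^ 2 * ε)))
    (F3 := tr (τ * ψ B * (ZZ ψ ε ^ 3 * ε))) (a := tr (τ * piA ψ ε)) (s := -(qq F)⁻¹ * tr (τ * piS ψ ε)) (p := 0)
    (Q := qq F + 1) hq1 hq2 ?_ ?_ ?_ ?_
  · rw [h5]
    field_simp
    ring
  · rw [zero_add, pow_one] at h2
    rw [h2]
    ring
  · rw [show 1 + 1 = 2 from rfl] at h3
    rw [h3]
    ring
  · rw [show 2 + 1 = 3 from rfl] at h4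
    rw [h4]
    ring
  · rw [← hcub]
    ring

end Trace

/-- **the dimension formula of rank one** -/
theorem trace_eps (tr : A →ₗ[ℂ] ℂ) (htr : ∀ x y, tr (x * y) = tr (y * x))
    (hgen : ∀ y : A, (∀ g, y * (ψ g * uu ψ ε) = 0) → y * ε = 0) :
    tr ε = (qq F + 1) / 2 * tr (uu ψ ε) - (qq F - 1) / 2 * (tr (piA ψ ε) - tr (piS ψ ε)) := by
  have hτ : ∀ g, (1 : A) * ψ g = ψ g * 1 := fun g => by rw [one_mul, mul_one]
  have h1 : ∀ k : ℕ, tr (ZZ ψ ε ^ (k + 1) * ε) = (qq F + 1) * ((qq F + 1) ^ k * tr (piA ψ ε) +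
      (1 + (qq F)⁻¹) ^ k * tr (piS ψ ε) + (2 : ℂ) ^ k * tr (piP ψ ε)) := by
    intro k
    have h2 := tr_succ hεε hεc tr htr hτ k 1
    have h3 := tr_expand hεε hεc tr htr hτ k 1
    simp only [mul_one, inv_mul_cancel, map_one, one_mul] at h2 h3
    rw [h2, h3, Finset.sum_const, Finset.card_univ, nsmul_eq_mul]
    show _ + qq F * _ = _
    ring
  have h2 := h1 0
  have h3 := h1 1
  have h4 := h1 2
  have hcub := congrArg (fun x => tr x) (cubic hεε hεc hgen)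
  simp only [map_sub, map_add, map_smul, smul_eq_mul, map_zero] at hcub
  have hq := qq_ne_zero (F := F)
  have hq1 := qq_add_ne (F := F)
  have hq2 : 1 + (qq F)⁻¹ ≠ 0 := by
    intro h
    apply hq1
    field_simp at h
    rw [h, mul_zero]
  have hs := congrArg (fun x => tr x) (pi_sum (ψ := ψ) (ε := ε))
  simp only [map_add] at hs
  have h5 := recur (F0 := tr ε) (F1 := tr (ZZ ψ ε * ε)) (F2 := tr (ZZ ψ ε ^ 2 * ε))
    (F3 := tr (ZZ ψ ε ^ 3 * ε)) (a := tr (piA ψ ε)) (s := tr (piS ψ ε)) (p := tr (piP ψ ε))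
    (Q := qq F + 1) hq1 hq2 ?_ ?_ ?_ ?_
  · rw [h5, ← hs]
    field_simp
    ring
  · rw [zero_add, pow_one] at h2
    rw [h2]
    ring
  · rw [show 1 + 1 = 2 from rfl] at h3
    rw [h3]
    ring
  · rw [show 2 + 1 = 3 from rfl] at h4
    rw [h4]
    ring
  · rw [← hcub]

end Alg

end Cfsg.Agent.H866.OZ
end

-- part: H866/OZ/Rep
section
/-!
# S4842: averages over subgroups in a representation (helper866)
-/

set_option autoImplicit false
set_option linter.unusedSectionVars false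
set_option maxHeartbeats 400000

namespace Cfsg.Agent.H866.OZ

open Cfsg.Agent.H631.Kaw (S left_S S_right S_eq_of_left S_eq_of_right mem_LF comm_of_cj)
open Cfsg.Agent.Nodes.Reps

section Av

variable {Y : Type*} [Group Y] [Finite Y] {V : Type*} [AddCommGroup V] [Module ℂ V]
  (φ : Y →* Module.End ℂ V)

/-- the average over a subgroup -/
noncomputable def av (H : Subgroup Y) : Module.End ℂ V := (Nat.card H : ℂ)⁻¹ • S φ H

theorem card_ne (H : Subgroup Y) : (Nat.card H : ℂ) ≠ 0 := Nat.cast_ne_zero.2 Nat.card_pos.ne'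

theorem mul_av {H : Subgroup Y} {g : Y} (hg : g ∈ H) : φ g * av φ H = av φ H := by
  rw [av, mul_smul_comm, left_S φ hg]

theorem av_mul {H : Subgroup Y} {g : Y} (hg : g ∈ H) : av φ H * φ g = av φ H := by
  rw [av, smul_mul_assoc, S_right φ hg]

theorem natCast_smul_eq (n : ℕ) (x : Module.End ℂ V) : ((n : ℕ) : Module.End ℂ V) * x = (n : ℂ) • x := by
  rw [← nsmul_eq_mul, Nat.cast_smul_eq_nsmul]

theorem av_of_left {H : Subgroup Y} {x : Module.End ℂ V} (hx : ∀ g ∈ H, φ g * x = x) : av φ H * x = x := by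
  rw [av, smul_mul_assoc, S_eq_of_left φ (fun g hg => hx g hg), natCast_smul_eq, smul_smul,
    inv_mul_cancel₀ (card_ne H), one_smul]

theorem av_of_right {H : Subgroup Y} {x : Module.End ℂ V} (hx : ∀ g ∈ H, x * φ g = x) : x * av φ H = x := by
  rw [av, mul_smul_comm, S_eq_of_right φ hx, natCast_smul_eq, smul_smul, inv_mul_cancel₀ (card_ne H), one_smul]

theorem av_av (H : Subgroup Y) : av φ H * av φ H = av φ H := av_of_left φ fun _ hg => mul_av φ hg

theorem av_le_right {H K : Subgroup Y} (hle : H ≤ K) : av φ K * av φ H = av φ K :=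
  av_of_right φ fun _ hg => av_mul φ (hle hg)

theorem comm_av {H : Subgroup Y} {g : Y} (hg : g ∈ Subgroup.normalizer (H : Set Y)) :
    φ g * av φ H = av φ H * φ g := by
  rw [av, mul_smul_comm, smul_mul_assoc, comm_of_cj φ (mem_normalizer_iff_cj.1 hg)]

theorem av_vec {H : Subgroup Y} {v : V} (hv : ∀ g ∈ H, φ g v = v) : av φ H v = v := by
  rw [av, LinearMap.smul_apply, S, LinearMap.sum_apply,
    Finset.sum_congr rfl (g := fun _ => v) fun g hg => hv g ((Set.Finite.mem_toFinset _).1 hg),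
    Finset.sum_const, ← Nat.cast_smul_eq_nsmul ℂ, smul_smul]
  have h1 : (((Set.toFinite (H : Set Y)).toFinset.card : ℕ) : ℂ) = (Nat.card H : ℂ) := by
    rw [← Set.ncard_eq_toFinset_card, ← Nat.card_coe_set_eq]
    rfl
  rw [h1, inv_mul_cancel₀ (card_ne H), one_smul]

theorem fix_av {H : Subgroup Y} {g : Y} (hg : g ∈ H) (v : V) : φ g (av φ H v) = av φ H v :=
  LinearMap.congr_fun (mul_av φ hg) v

/-- the average over a product -/
theorem av_sup {H K L : Subgroup Y} (hH : H ≤ L) (hK : K ≤ L) (hL : ∀ g ∈ L, ∃ a ∈ H, ∃ b ∈ K, g = a * b)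
    (hn : H ≤ Subgroup.normalizer (K : Set Y)) : av φ L = av φ H * av φ K := by
  have hc : av φ H * av φ K = av φ K * av φ H := by
    rw [av, smul_mul_assoc, mul_smul_comm]
    congr 1
    unfold S
    rw [Finset.sum_mul, Finset.mul_sum]
    exact Finset.sum_congr rfl fun g hg => comm_av φ (hn ((Set.Finite.mem_toFinset _).1 hg))
  have h1 : av φ L * (av φ H * av φ K) = av φ L := by
    rw [← mul_assoc, av_le_right φ hH, av_le_right φ hK]
  rw [← h1]
  refine av_of_left φ fun g hg => ?_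
  obtain ⟨a, ha, b, hb, rfl⟩ := hL g hg
  rw [map_mul, mul_assoc, hc, ← mul_assoc (φ b), mul_av φ hb, ← hc, ← mul_assoc, mul_av φ ha]

variable [FiniteDimensional ℂ V]

open LinearMap (trace)

/-- **truncation** -/
theorem trace_av {H : Subgroup Y} {t : Y} (ht : ∀ x ∈ H, t⁻¹ * x * t ∈ H) (hc : ∀ x ∈ H, t * x = x * t → x = 1) :
    trace ℂ V (φ t * av φ H) = trace ℂ V (φ t) := by
  have h1 : ∀ x ∈ H, ∃ y ∈ H, t * x = y * t * y⁻¹ := by
    let f : H → H := fun y => ⟨t⁻¹ * y * t * (y : Y)⁻¹, mul_mem (ht _ y.2) (inv_mem y.2)⟩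
    have hf : Function.Injective f := by
      rintro ⟨y, hy⟩ ⟨z, hz⟩ e
      have e1 : t⁻¹ * y * t * y⁻¹ = t⁻¹ * z * t * z⁻¹ := congrArg Subtype.val e
      have e2 : z⁻¹ * y = 1 := by
        refine hc _ (mul_mem (inv_mem hz) hy) ?_
        have e4 : t * (t⁻¹ * z * t * z⁻¹) * y = z * t * (z⁻¹ * y) := by group
        have e5 : t * (t⁻¹ * y * t * y⁻¹) * y = y * t := by group
        have e6 : y * t = z * t * (z⁻¹ * y) := by rw [← e4, ← e1, e5]
        calc t * (z⁻¹ * y) = z⁻¹ * (z * t * (z⁻¹ * y)) := by group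
          _ = _ := by rw [← e6]; group
      exact Subtype.ext (inv_mul_eq_one.1 e2).symm
    intro x hx
    obtain ⟨y, hy⟩ := (Finite.injective_iff_surjective.1 hf) ⟨x, hx⟩
    have hy' : t⁻¹ * y * t * (y : Y)⁻¹ = x := congrArg Subtype.val hy
    refine ⟨y, y.2, ?_⟩
    rw [← hy']
    group
  have h2 : ∀ x ∈ H, trace ℂ V (φ (t * x)) = trace ℂ V (φ t) := by
    intro x hx
    obtain ⟨y, hy, e⟩ := h1 x hx
    rw [e, map_mul φ, LinearMap.trace_mul_comm, ← map_mul, ← mul_assoc, inv_mul_cancel, one_mul]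
  rw [av, mul_smul_comm, map_smul, S, Finset.mul_sum, map_sum,
    Finset.sum_congr rfl (g := fun _ => trace ℂ V (φ t)) fun x hx => by
      rw [← map_mul]; exact h2 x ((Set.Finite.mem_toFinset _).1 hx)]
  rw [Finset.sum_const, nsmul_eq_mul, smul_eq_mul]
  have h1 : (((Set.toFinite (H : Set Y)).toFinset.card : ℕ) : ℂ) = (Nat.card H : ℂ) := by
    rw [← Set.ncard_eq_toFinset_card, ← Nat.card_coe_set_eq]
    rfl
  rw [h1, ← mul_assoc, inv_mul_cancel₀ (card_ne H), one_mul]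

theorem trace_av_eq (H : Subgroup Y) :
    (Nat.card H : ℂ) * trace ℂ V (av φ H) = ∑ g ∈ (Set.toFinite (H : Set Y)).toFinset, trace ℂ V (φ g) := by
  rw [av, map_smul, smul_eq_mul, ← mul_assoc, mul_inv_cancel₀ (card_ne H), one_mul, S, map_sum]

/-- idempotents -/
theorem trace_idem {x : Module.End ℂ V} (hx : x * x = x) : trace ℂ V x = (Module.finrank ℂ (LinearMap.range x) : ℂ) := by
  have h1 : LinearMap.IsProj (LinearMap.range x) x := by
    refine ⟨fun v => LinearMap.mem_range_self x v, ?_⟩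
    rintro _ ⟨v, rfl⟩
    exact LinearMap.congr_fun hx v
  exact h1.trace

end Av

section Irr

variable {Y : Type*} [Group Y] {V : Type*} [AddCommGroup V] [Module ℂ V] (ρ : Representation ℂ Y V)

/-- **killing** -/
theorem irr_kill (hρ : ρ.IsIrreducible) {y : Module.End ℂ V} {f : V} (hf : f ≠ 0) (h : ∀ g, y (ρ g f) = 0) : y = 0 := by
  let K : Subrepresentation ρ :=
    { toSubmodule := ⨅ g : Y, LinearMap.ker (y * ρ g)
      apply_mem_toSubmodule := by
        intro a v hv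
        rw [Submodule.mem_iInf] at hv ⊢
        intro g
        have h1 := hv (g * a)
        rw [LinearMap.mem_ker] at h1 ⊢
        rw [map_mul] at h1
        exact h1 }
  have hK : K = ⊥ ∨ K = ⊤ := hρ.eq_bot_or_eq_top K
  have hfK : f ∈ K.toSubmodule := by
    show f ∈ ⨅ g : Y, LinearMap.ker (y * ρ g)
    rw [Submodule.mem_iInf]
    intro g
    rw [LinearMap.mem_ker]
    exact h g
  rcases hK with hK | hK
  · rw [hK] at hfK
    exact absurd ((Submodule.mem_bot ℂ).1 hfK) hf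
  · ext v
    have h1 : v ∈ K.toSubmodule := by rw [hK]; exact Submodule.mem_top
    have h2 : v ∈ ⨅ g : Y, LinearMap.ker (y * ρ g) := h1
    rw [Submodule.mem_iInf] at h2
    have h3 := h2 1
    rw [LinearMap.mem_ker, map_one, mul_one] at h3
    rw [h3]
    rfl

end Irr

end Cfsg.Agent.H866.OZ
end

-- part: H866/OZ/Frame
section
/-!
# S4842: fixed points of unipotent radicals in an irreducible representation (helper866)

For a root group datum with `G = GG`, an irreducible representation `ρ` of `G`: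
* `gen` : if `V^U ≠ 0`, then `V^(V_i)` is generated by `V^U` under the rank one group;
* `char_elliptic` : the value at `h Φ(B)`, `B` elliptic; `dim_V` : the dimension of `V^(V_i)`;
* `rank_two` : if `V^U = 0` and `V^(V_i) ≠ 0`, then `V^(V_j) = 0` if no `w` maps `α_i` to `± α_j`.
-/

set_option autoImplicit false
set_option linter.unusedSectionVars false
set_option maxHeartbeats 400000

namespace Cfsg.Agent.H866.OZ

open CoxeterSystem Cfsg.Agent.ChevalleyStructure.CoxeterGeom Cfsg.Agent.Tits.Roots Cfsg.Agent.Tits.Core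
  Cfsg.Agent.Tits.Exchange Cfsg.Agent.Nodes.Reps Cfsg.Agent.Nodes.BNOf Cfsg.Agent.Nodes.StabComb
  Cfsg.Agent.Nodes.Bruhat Cfsg.Agent.Nodes.OppDec Cfsg.Agent.Nodes.LeviDec Cfsg.Agent.Nodes.NormalForm
open Cfsg.Agent.H866.D4Wf (eq_of_mem_RootsJ)
open Cfsg.Agent.ChevalleyStructure.SL2Hom (up lo mem_closure_SL2)
open Cfsg.Agent.Nodes.RGDFoldSL (wS hS coe_wS coe_hS)
open Cfsg.Agent.H631.Kaw (S)
open LinearMap (trace)

section Grp

variable {I W Y : Type*} [Fintype I] [DecidableEq I] [Group W] [Group Y] {M : CoxeterMatrix I}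
  {cs : CoxeterSystem M W} {A : I → I → ℤ} {h : IsCartan M A} {p : ℕ} {T : Subgroup Y} {n : I → Y}
  {X : (I → ℤ) → Subgroup Y} (R : RGD cs h p T n X)

include R

theorem UJ_single (i : I) : UJ cs h X {i} = X (sr i) := by
  apply le_antisymm
  · refine RGD.Sup_le fun x hx => ?_
    rcases eq_of_mem_RootsJ R (PosJ_subset {i} hx) with rfl | rfl
    · exact le_rfl
    · exact absurd (neg_nonneg.1 hx.2.1) fun h1 => (isRoot_sr cs h i).not_pos_neg (sr_nonneg i) h1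
  · exact RGD.le_Sup (S := PosJ cs h {i}) (sr_mem_PosJ (Set.mem_singleton i))

theorem X_le_U (i : I) : X (sr i) ≤ RGD.Sup X (RGD.Pos cs h) :=
  RGD.le_Sup (S := RGD.Pos cs h) ⟨isRoot_sr cs h i, sr_nonneg i⟩

/-- `U = X_i V_i` -/
theorem mem_U_split (i : I) {g : Y} (hg : g ∈ RGD.Sup X (RGD.Pos cs h)) :
    ∃ a ∈ X (sr i), ∃ v ∈ VJ cs h X {i}, g = a * v := by
  obtain ⟨a, ha, v, hv, e⟩ := (mem_U_iff R (J := {i})).1 hg
  rw [UJ_single R] at ha
  exact ⟨a, ha, v, hv, e⟩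

theorem X_le_normalizer_VJ (i : I) : X (sr i) ≤ Subgroup.normalizer (VJ cs h X {i} : Set Y) :=
  le_trans (X_le_LJ (PosJ_subset {i} (sr_mem_PosJ (Set.mem_singleton i)))) (LJ_le_normalizer_VJ R {i})

theorem n_mem_normalizer_VJ (i : I) : n i ∈ Subgroup.normalizer (VJ cs h X {i} : Set Y) :=
  LJ_le_normalizer_VJ R {i} (n_mem_LJ R (Set.mem_singleton i))

theorem T_le_normalizer_VJ (J : Set I) : T ≤ Subgroup.normalizer (VJ cs h X J : Set Y) :=
  le_trans T_le_LJ (LJ_le_normalizer_VJ R J)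

theorem U_le_normalizer_VJ (i : I) :
    RGD.Sup X (RGD.Pos cs h) ≤ Subgroup.normalizer (VJ cs h X {i} : Set Y) := by
  intro g hg
  obtain ⟨a, ha, v, hv, rfl⟩ := mem_U_split R i hg
  exact mul_mem (X_le_normalizer_VJ R i ha) (Subgroup.le_normalizer hv)

/-- `G = U N U` -/
theorem exists_unu [Finite W] (hG : GG cs h T X = ⊤) (g : Y) : ∃ u ∈ RGD.Sup X (RGD.Pos cs h), ∃ w k,
    Rp cs R.nsys w k ∧ ∃ u' ∈ RGD.Sup X (RGD.Pos cs h), g = u * k * u' := by
  obtain ⟨w, hw⟩ := (mem_GG R).1 (show g ∈ GG cs h T X by rw [hG]; exact Subgroup.mem_top g)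
  obtain ⟨u, hu, k, hk, v, hv, e⟩ := exists_normal_form R hw
  exact ⟨u, hu, w, k, hk, v, RGD.Sup_mono (S := NW cs h w) (S' := RGD.Pos cs h) (fun x hx => ⟨hx.1, hx.2.1⟩) hv, e⟩

/-- conjugation into `U` -/
theorem conj_X {w : W} {k : Y} (hk : Rp cs R.nsys w k) {x : I → ℤ} (hx : IsRoot cs h x) {a : Y} (ha : a ∈ X x) :
    k⁻¹ * a * k ∈ X (rep cs h w⁻¹ x) := R.conj_mem' hk hx ha

end Grp

section Rep

variable {I W Y : Type*} [Fintype I] [DecidableEq I] [Group W] [Group Y] [Finite Y] {M : CoxeterMatrix I}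
  {cs : CoxeterSystem M W} {A : I → I → ℤ} {h : IsCartan M A} {p : ℕ} {T : Subgroup Y} {n : I → Y}
  {X : (I → ℤ) → Subgroup Y} {V : Type*} [AddCommGroup V] [Module ℂ V] (ρ : Representation ℂ Y V)

/-- the projection onto the fixed points of `U` -/
noncomputable def eU (cs : CoxeterSystem M W) (h : IsCartan M A) (X : (I → ℤ) → Subgroup Y) : Module.End ℂ V :=
  av ρ (RGD.Sup X (RGD.Pos cs h))

/-- the projection onto the fixed points of `V_i` -/
noncomputable def eV (cs : CoxeterSystem M W) (h : IsCartan M A) (X : (I → ℤ) → Subgroup Y) (i : I) :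
    Module.End ℂ V := av ρ (VJ cs h X {i})

variable {ρ} (R : RGD cs h p T n X)

include R

theorem eU_eq (i : I) : eU ρ cs h X = av ρ (X (sr i)) * eV ρ cs h X i :=
  av_sup ρ (X_le_U R i) (VJ_le_U {i}) (fun _ hg => mem_U_split R i hg) (X_le_normalizer_VJ R i)

omit [Finite Y] in
theorem apply_mul (a b : Y) (v : V) : ρ (a * b) v = ρ a (ρ b v) := by rw [map_mul]; rfl

theorem eU_fix {u : Y} (hu : u ∈ RGD.Sup X (RGD.Pos cs h)) (v : V) : ρ u (eU ρ cs h X v) = eU ρ cs h X v :=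
  fix_av ρ hu v

theorem eV_fix {i : I} {u : Y} (hu : u ∈ VJ cs h X {i}) (v : V) : ρ u (eV ρ cs h X i v) = eV ρ cs h X i v :=
  fix_av ρ hu v

theorem eU_of_fix {v : V} (hv : ∀ u ∈ RGD.Sup X (RGD.Pos cs h), ρ u v = v) : eU ρ cs h X v = v := av_vec ρ hv

/-- a vector fixed by `V_i` and `X_i` is fixed by `U` -/
theorem fix_of_XV {i : I} {v : V} (h1 : ∀ u ∈ X (sr i), ρ u v = v) (h2 : ∀ u ∈ VJ cs h X {i}, ρ u v = v) :
    ∀ u ∈ RGD.Sup X (RGD.Pos cs h), ρ u v = v := by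
  intro u hu
  obtain ⟨a, ha, b, hb, rfl⟩ := mem_U_split R i hu
  rw [apply_mul R, h2 b hb, h1 a ha]

/-- `e_(V_i)` absorbs `V_i` and commutes with the normaliser -/
theorem eV_comm {i : I} {g : Y} (hg : g ∈ Subgroup.normalizer (VJ cs h X {i} : Set Y)) (v : V) :
    eV ρ cs h X i (ρ g v) = ρ g (eV ρ cs h X i v) :=
  (LinearMap.congr_fun (comm_av ρ hg) v).symm

theorem eV_absorb {i : I} {g : Y} (hg : g ∈ VJ cs h X {i}) (v : V) : eV ρ cs h X i (ρ g v) = eV ρ cs h X i v :=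
  LinearMap.congr_fun (av_mul ρ hg) v

theorem eU_absorb {g : Y} (hg : g ∈ RGD.Sup X (RGD.Pos cs h)) (v : V) : eU ρ cs h X (ρ g v) = eU ρ cs h X v :=
  LinearMap.congr_fun (av_mul ρ hg) v

/-- the vector `e_(V_j) k f`, `f` fixed by `X_y`, `y = w⁻¹ (± α_j)` -/
theorem fix_pos {w : W} {k : Y} (hk : Rp cs R.nsys w k) {j : I} {f : V}
    (hf : ∀ u ∈ X (rep cs h w⁻¹ (sr j)), ρ u f = f) :
    ∀ u ∈ RGD.Sup X (RGD.Pos cs h), ρ u (eV ρ cs h X j (ρ k f)) = eV ρ cs h X j (ρ k f) := by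
  refine fix_of_XV R (i := j) (fun u hu => ?_) (fun u hu => eV_fix R hu _)
  rw [← eV_comm R (X_le_normalizer_VJ R j hu), ← apply_mul R]
  have h1 : u * k = k * (k⁻¹ * u * k) := by group
  rw [h1, apply_mul R, hf _ (conj_X R hk (isRoot_sr cs h j) hu)]

theorem fix_neg {w : W} {k : Y} (hk : Rp cs R.nsys w k) {j : I} {f : V}
    (hf : ∀ u ∈ X (rep cs h w⁻¹ (-sr j)), ρ u f = f) :
    ∀ u ∈ RGD.Sup X (RGD.Pos cs h), ρ u (ρ (n j)⁻¹ (eV ρ cs h X j (ρ k f))) = ρ (n j)⁻¹ (eV ρ cs h X j (ρ k f)) := by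
  have hn := n_mem_normalizer_VJ R j
  refine fix_of_XV R (i := j) (fun u hu => ?_) (fun u hu => ?_)
  · have h1 : n j * u * (n j)⁻¹ ∈ X (-sr j) := by
      have := R.conj_mem (rp_simple cs R.nsys j) (isRoot_sr cs h j) hu
      rwa [rep_simple_sr] at this
    have h2 : u * (n j)⁻¹ = (n j)⁻¹ * (n j * u * (n j)⁻¹) := by group
    rw [← apply_mul R, h2, apply_mul R]
    congr 1
    have h3 : n j * u * (n j)⁻¹ ∈ Subgroup.normalizer (VJ cs h X {j} : Set Y) :=
      mul_mem (mul_mem hn (X_le_normalizer_VJ R j hu)) (inv_mem hn)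
    rw [← eV_comm R h3, ← apply_mul R]
    have h4 : (n j * u * (n j)⁻¹) * k = k * (k⁻¹ * (n j * u * (n j)⁻¹) * k) := by group
    rw [h4, apply_mul R, hf _ (conj_X R hk (isRoot_sr cs h j).neg h1)]
  · rw [← eV_comm R (inv_mem hn)]
    exact eV_fix R hu _

/-- **`V^(V_j) = 0`** -/
theorem rank_two [Finite W] (hG : GG cs h T X = ⊤) (hρ : ρ.IsIrreducible) (h0 : eU ρ cs h X = 0) {i j : I}
    (hij : ∀ w : W, rep cs h w⁻¹ (sr j) ≠ sr i ∧ rep cs h w⁻¹ (sr j) ≠ -sr i) (hV : eV ρ cs h X i ≠ 0) :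
    eV ρ cs h X j = 0 := by
  obtain ⟨v, hv⟩ : ∃ v, eV ρ cs h X i v ≠ 0 := by
    by_contra hcon
    push Not at hcon
    exact hV (LinearMap.ext hcon)
  have key : ∀ f : V, (∀ u ∈ VJ cs h X {i}, ρ u f = f) → ∀ {w : W} {k : Y}, Rp cs R.nsys w k →
      eV ρ cs h X j (ρ k f) = 0 := by
    intro f hf w k hk
    have hz : ∀ v : V, (∀ u ∈ RGD.Sup X (RGD.Pos cs h), ρ u v = v) → v = 0 := by
      intro v hv
      rw [← eU_of_fix R hv, h0]
      rfl
    have hr := (isRoot_sr cs h j).act w⁻¹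
    rcases hr.pos_or_neg with h1 | h1
    · refine hz _ (fix_pos R hk fun u hu => ?_)
      refine hf u (RGD.le_Sup (S := NotJ cs h {i}) ?_ hu)
      rcases mem_PosJ_or_NotJ {i} hr h1 with h2 | h2
      · exfalso
        rcases eq_of_mem_RootsJ R (PosJ_subset {i} h2) with h3 | h3
        · exact (hij w).1 h3
        · exact (hij w).2 h3
      · exact h2
    · have h2 : ρ (n j)⁻¹ (eV ρ cs h X j (ρ k f)) = 0 := by
        refine hz _ (fix_neg R hk (f := f) fun u hu => ?_)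
        refine hf u (RGD.le_Sup (S := NotJ cs h {i}) ?_ hu)
        rw [map_neg]
        rcases mem_PosJ_or_NotJ {i} hr.neg (neg_nonneg.2 h1) with h2 | h2
        · exfalso
          rcases eq_of_mem_RootsJ R (PosJ_subset {i} h2) with h3 | h3
          · exact (hij w).2 (by rw [← h3, neg_neg])
          · exact (hij w).1 (neg_injective h3)
        · exact h2
      have h3 := congrArg (ρ (n j)) h2
      rw [← apply_mul R, mul_inv_cancel, map_one, map_zero] at h3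
      exact h3
  refine irr_kill ρ hρ hv fun g => ?_
  obtain ⟨u, hu, w, k, hk, u', hu', rfl⟩ := exists_unu R hG g
  obtain ⟨a, ha, b, hb, e⟩ := mem_U_split R j (inv_mem hu)
  have e' : u = b⁻¹ * a⁻¹ := by rw [← mul_inv_rev, ← e, inv_inv]
  rw [e', mul_assoc, mul_assoc, apply_mul R, eV_absorb R (inv_mem hb), apply_mul R,
    eV_comm R (X_le_normalizer_VJ R j (inv_mem ha)), apply_mul R, key _ ?_ hk, map_zero]
  intro x hx
  rw [← apply_mul R]
  have h2 : x * u' = u' * (u'⁻¹ * x * u') := by group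
  have h3 : u'⁻¹ * x * u' ∈ VJ cs h X {i} := by
    have := (Subgroup.mem_normalizer_iff.1 (inv_mem (U_le_normalizer_VJ R i hu')) x).1 hx
    rwa [inv_inv] at this
  rw [h2, apply_mul R, eV_fix R h3]

end Rep

end Cfsg.Agent.H866.OZ
end

-- part: H866/OZ/Elliptic
section
/-!
# S4842: the rank one formulas in a root group datum (helper866)
-/

set_option autoImplicit false
set_option linter.unusedSectionVars false
set_option maxHeartbeats 400000

namespace Cfsg.Agent.H866.OZ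

open CoxeterSystem Cfsg.Agent.ChevalleyStructure.CoxeterGeom Cfsg.Agent.Tits.Roots Cfsg.Agent.Tits.Core
  Cfsg.Agent.Tits.Exchange Cfsg.Agent.Nodes.Reps Cfsg.Agent.Nodes.BNOf Cfsg.Agent.Nodes.StabComb
  Cfsg.Agent.Nodes.Bruhat Cfsg.Agent.Nodes.OppDec Cfsg.Agent.Nodes.LeviDec Cfsg.Agent.Nodes.NormalForm
open Cfsg.Agent.H866.D4Wf (eq_of_mem_RootsJ)
open Cfsg.Agent.ChevalleyStructure.SL2Hom (up lo mem_closure_SL2)
open Cfsg.Agent.Nodes.RGDFoldSL (wS hS coe_wS coe_hS)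
open Cfsg.Agent.H631.Kaw (S)
open LinearMap (trace)

variable {I W Y : Type*} [Fintype I] [DecidableEq I] [Group W] [Group Y] [Finite Y] {M : CoxeterMatrix I}
  {cs : CoxeterSystem M W} {A : I → I → ℤ} {h : IsCartan M A} {p : ℕ} {T : Subgroup Y} {n : I → Y}
  {X : (I → ℤ) → Subgroup Y} {V : Type*} [AddCommGroup V] [Module ℂ V] {ρ : Representation ℂ Y V}
  {F : Type*} [Field F] [Fintype F] [DecidableEq F]

/-- coordinates of a node -/
structure Co (T : Subgroup Y) (n : I → Y) (X : (I → ℤ) → Subgroup Y) (i : I)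
    (Φ : Matrix.SpecialLinearGroup (Fin 2) F →* Y) : Prop where
  mem : ∀ x, x ∈ X (sr i) ↔ ∃ a, x = Φ (up a)
  inj : ∀ a b, Φ (up a) = Φ (up b) → a = b
  w : Φ (wS 1) = n i
  tor : ∀ c : F, c ≠ 0 → Φ (hS c) ∈ T

/-- the representation of the rank one group -/
noncomputable def ps (ρ : Representation ℂ Y V) (Φ : Matrix.SpecialLinearGroup (Fin 2) F →* Y) :
    Matrix.SpecialLinearGroup (Fin 2) F →* Module.End ℂ V := MonoidHom.comp ρ Φ

theorem ps_apply (Φ : Matrix.SpecialLinearGroup (Fin 2) F →* Y) (g : Matrix.SpecialLinearGroup (Fin 2) F) :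
    ps ρ Φ g = ρ (Φ g) := rfl

variable {i : I} {Φ : Matrix.SpecialLinearGroup (Fin 2) F →* Y}

theorem Co.card (C : Co T n X i Φ) : Nat.card (X (sr i)) = Fintype.card F := by
  rw [← Nat.card_eq_fintype_card]
  symm
  refine Nat.card_congr (Equiv.ofBijective (fun a : F => (⟨Φ (up a), (C.mem _).2 ⟨a, rfl⟩⟩ : X (sr i))) ⟨?_, ?_⟩)
  · intro a b e
    exact C.inj a b (congrArg Subtype.val e)
  · rintro ⟨x, hx⟩
    obtain ⟨a, rfl⟩ := (C.mem x).1 hx
    exact ⟨a, rfl⟩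

theorem Co.eX_eq (C : Co T n X i Φ) : eX (ps ρ Φ) = av ρ (X (sr i)) := by
  classical
  rw [eX, av, C.card]
  have h1 : (Set.toFinite ((X (sr i) : Subgroup Y) : Set Y)).toFinset =
      (Finset.univ : Finset F).image (fun a => Φ (up a)) := by
    ext x
    rw [Set.Finite.mem_toFinset, Finset.mem_image, SetLike.mem_coe, C.mem]
    exact ⟨fun ⟨a, e⟩ => ⟨a, Finset.mem_univ _, e.symm⟩, fun ⟨a, _, e⟩ => ⟨a, e.symm⟩⟩
  rw [S, h1, Finset.sum_image fun a _ b _ e => C.inj a b e]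
  rfl

variable (R : RGD cs h p T n X)

include R

theorem Co.mem_LJ (C : Co T n X i Φ) (B : Matrix.SpecialLinearGroup (Fin 2) F) : Φ B ∈ LJ cs h T X {i} := by
  have hn := n_mem_LJ R (Set.mem_singleton i)
  have hup : ∀ a, Φ (up a) ∈ LJ cs h T X {i} := fun a =>
    X_le_LJ (PosJ_subset {i} (sr_mem_PosJ (Set.mem_singleton i))) ((C.mem _).2 ⟨a, rfl⟩)
  have h3 : Subgroup.closure (Set.range (up (F := F)) ∪ Set.range (lo (F := F))) ≤
      (LJ cs h T X {i}).comap Φ := by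
    rw [Subgroup.closure_le]
    rintro _ (⟨a, rfl⟩ | ⟨a, rfl⟩)
    · exact hup a
    · show Φ (lo a) ∈ LJ cs h T X {i}
      rw [lo_eq, map_mul, map_mul, map_inv, C.w]
      exact mul_mem (mul_mem (inv_mem hn) (hup _)) hn
  exact h3 (mem_closure_SL2 B)

theorem Co.mem_normalizer (C : Co T n X i Φ) (B : Matrix.SpecialLinearGroup (Fin 2) F) :
    Φ B ∈ Subgroup.normalizer (VJ cs h X {i} : Set Y) := LJ_le_normalizer_VJ R {i} (C.mem_LJ R B)

theorem Co.eV_comm (C : Co T n X i Φ) (B : Matrix.SpecialLinearGroup (Fin 2) F) :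
    eV ρ cs h X i * ps ρ Φ B = ps ρ Φ B * eV ρ cs h X i := (comm_av ρ (C.mem_normalizer R B)).symm

omit [DecidableEq F] in
theorem eV_eV : eV ρ cs h X i * eV ρ cs h X i = eV ρ cs h X i := av_av ρ _

theorem Co.uu_eq (C : Co T n X i Φ) : uu (ps ρ Φ) (eV ρ cs h X i) = eU ρ cs h X := by
  rw [uu, C.eX_eq, eU_eq R i]

theorem T_comm_eU {t : Y} (ht : t ∈ T) : ρ t * eU ρ cs h X = eU ρ cs h X * ρ t :=
  comm_av ρ (R.T_le_normalizer_U ht)

theorem T_comm_eV {t : Y} (ht : t ∈ T) : ρ t * eV ρ cs h X i = eV ρ cs h X i * ρ t :=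
  comm_av ρ (T_le_normalizer_VJ R {i} ht)

/-- **`V^(V_i)` is generated by `V^U`** -/
theorem Co.gen [Finite W] (C : Co T n X i Φ) (hG : GG cs h T X = ⊤) (hρ : ρ.IsIrreducible) (h0 : eU ρ cs h X ≠ 0)
    (y : Module.End ℂ V) (hy : ∀ g, y * (ps ρ Φ g * uu (ps ρ Φ) (eV ρ cs h X i)) = 0) : y * eV ρ cs h X i = 0 := by
  rw [C.uu_eq R] at hy
  obtain ⟨v, hv⟩ : ∃ v, eU ρ cs h X v ≠ 0 := by
    by_contra hcon
    push Not at hcon
    exact h0 (LinearMap.ext hcon)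
  have hy' : ∀ (B : Matrix.SpecialLinearGroup (Fin 2) F) (m : V), (∀ u ∈ RGD.Sup X (RGD.Pos cs h), ρ u m = m) →
      y (ρ (Φ B) m) = 0 := by
    intro B m hm
    have h1 := LinearMap.congr_fun (hy B) m
    have h2 : (y * (ps ρ Φ B * eU ρ cs h X)) m = y (ρ (Φ B) (eU ρ cs h X m)) := rfl
    rw [h2, eU_of_fix R hm] at h1
    exact h1
  refine irr_kill ρ hρ hv fun g => ?_
  obtain ⟨u, hu, w, k, hk, u', hu', rfl⟩ := exists_unu R hG g
  obtain ⟨a, ha, b, hb, e⟩ := mem_U_split R i (inv_mem hu)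
  have e' : u = b⁻¹ * a⁻¹ := by rw [← mul_inv_rev, ← e, inv_inv]
  have ha' := inv_mem ha
  show y (eV ρ cs h X i (ρ (u * k * u') (eU ρ cs h X v))) = 0
  rw [e', mul_assoc, mul_assoc, apply_mul R, eV_absorb R (inv_mem hb), apply_mul R,
    OZ.eV_comm R (X_le_normalizer_VJ R i ha'), apply_mul R, eU_fix R hu']
  have hf : ∀ u ∈ RGD.Sup X (RGD.Pos cs h), ρ u (eU ρ cs h X v) = eU ρ cs h X v := fun u hu => eU_fix R hu v
  have hr := (isRoot_sr cs h i).act w⁻¹
  obtain ⟨c, hc⟩ := (C.mem _).1 ha'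
  rcases hr.pos_or_neg with h1 | h1
  · have h2 := fix_pos R hk (j := i) (f := eU ρ cs h X v) fun u hu =>
      hf u (RGD.le_Sup (S := RGD.Pos cs h) ⟨hr, h1⟩ hu)
    rw [hc]
    exact hy' _ _ h2
  · have h2 := fix_neg R hk (j := i) (f := eU ρ cs h X v) fun u hu => by
      refine hf u (RGD.le_Sup (S := RGD.Pos cs h) ?_ hu)
      rw [map_neg]
      exact ⟨hr.neg, neg_nonneg.2 h1⟩
    have h3 := hy' (up c * wS 1) _ h2
    rw [map_mul, C.w, apply_mul R, ← apply_mul R (n i), mul_inv_cancel, map_one] at h3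
    rw [hc]
    exact h3

variable [FiniteDimensional ℂ V]

/-- **the character at an elliptic element of rank one** -/
theorem Co.char_elliptic [Finite W] (C : Co T n X i Φ) (hG : GG cs h T X = ⊤) (hρ : ρ.IsIrreducible)
    (h0 : eU ρ cs h X ≠ 0) (hT : ∀ s ∈ T, ∀ t ∈ T, s * t = t * s)
    (hsur : ∀ d : F, d ≠ 0 → ∃ t ∈ T, t * n i = n i * Φ (hS d) * t) {g : Y} (hg : g ∈ T)
    (hgc : ∀ B, g * Φ B = Φ B * g) {B : Matrix.SpecialLinearGroup (Fin 2) F} (hB : Ellip B)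
    (hfree : ∀ v ∈ VJ cs h X {i}, g * Φ B * v = v * (g * Φ B) → v = 1) :
    trace ℂ V (ρ (g * Φ B)) = trace ℂ V (ρ g * piA (ps ρ Φ) (eV ρ cs h X i)) -
      trace ℂ V (ρ g * piS (ps ρ Φ) (eV ρ cs h X i)) := by
  have hnorm : g * Φ B ∈ Subgroup.normalizer (VJ cs h X {i} : Set Y) :=
    mul_mem (T_le_normalizer_VJ R {i} hg) (C.mem_normalizer R B)
  have h1 : trace ℂ V (ρ (g * Φ B) * eV ρ cs h X i) = trace ℂ V (ρ (g * Φ B)) := by
    refine trace_av ρ (fun x hx => ?_) hfree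
    have := (Subgroup.mem_normalizer_iff.1 (inv_mem hnorm) x).1 hx
    rwa [inv_inv] at this
  rw [← h1, map_mul ρ]
  refine trace_elliptic (ψ := ps ρ Φ) (ε := eV ρ cs h X i) (eV_eV R) (fun B => C.eV_comm R B) (trace ℂ V)
    (fun x y => LinearMap.trace_mul_comm ℂ x y) (τ := ρ g) (fun B => ?_) (T_comm_eV R hg)
    (C.gen R hG hρ h0) (fun d hd => ?_) hB
  · rw [ps_apply, ← map_mul, hgc, map_mul]
  · obtain ⟨t, ht, e⟩ := hsur d hd
    refine ⟨ρ t, ρ t⁻¹, ?_, ?_, ?_, ?_, ?_, ?_⟩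
    · rw [← map_mul, mul_inv_cancel, map_one]
    · rw [← map_mul, inv_mul_cancel, map_one]
    · rw [← map_mul, ← map_mul, hT t ht g hg]
    · intro c hc
      rw [ps_apply, ← map_mul, ← map_mul, hT t ht _ (C.tor c hc)]
    · rw [C.uu_eq R]
      exact T_comm_eU R ht
    · rw [ps_apply, ps_apply, ← map_mul, C.w, e, map_mul, map_mul]

/-- **the dimension of `V^(V_i)`** -/
theorem Co.dim_V [Finite W] (C : Co T n X i Φ) (hG : GG cs h T X = ⊤) (hρ : ρ.IsIrreducible)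
    (h0 : eU ρ cs h X ≠ 0) :
    trace ℂ V (eV ρ cs h X i) = (qq F + 1) / 2 * trace ℂ V (eU ρ cs h X) -
      (qq F - 1) / 2 * (trace ℂ V (piA (ps ρ Φ) (eV ρ cs h X i)) - trace ℂ V (piS (ps ρ Φ) (eV ρ cs h X i))) := by
  have h1 := trace_eps (ψ := ps ρ Φ) (ε := eV ρ cs h X i) (eV_eV R) (fun B => C.eV_comm R B) (trace ℂ V)
    (fun x y => LinearMap.trace_mul_comm ℂ x y) (C.gen R hG hρ h0)
  rwa [C.uu_eq R] at h1

end Cfsg.Agent.H866.OZ
end

private theorem dce_485621f5ea98 : _root_.True := by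
  try have : _root_.True := by simp only [_root_.Cfsg.Agent.H866.OZ.eV.congr_simp]
  try have : _root_.True := by simp only [_root_.Cfsg.Agent.H866.OZ.qq.eq_1]
  try have : _root_.True := by simp only [_root_.Cfsg.Agent.H866.OZ.eta.eq_1]
  try have : _root_.True := by simp only [_root_.Cfsg.Agent.H866.OZ.uu.eq_1]
  try have : _root_.True := by simp only [_root_.Cfsg.Agent.H866.OZ.th.eq_1]
  try have : _root_.True := by simp only [_root_.Cfsg.Agent.H866.OZ.ZZ.eq_1]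
  try have : _root_.True := by simp only [_root_.Cfsg.Agent.H866.OZ.piP.eq_1]
  try have : _root_.True := by simp only [_root_.Cfsg.Agent.H866.OZ.piS.congr_simp]
  try have : _root_.True := by simp only [_root_.Cfsg.Agent.H866.OZ.piA.eq_1]
  try have : _root_.True := by simp only [_root_.Cfsg.Agent.H866.OZ.piP.congr_simp]
  try have : _root_.True := by simp only [_root_.Cfsg.Agent.H866.OZ.piA.congr_simp]
  try have : _root_.True := by simp only [_root_.Cfsg.Agent.H866.OZ.Zt.eq_1]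
  try have : _root_.True := by simp only [_root_.Cfsg.Agent.H866.OZ.eU.congr_simp]
  try have : _root_.True := by simp only [_root_.Cfsg.Agent.H866.OZ.piS.eq_1]
  try have : _root_.True := by simp only [_root_.Cfsg.Agent.H631.Kaw.S.eq_1]
  try have : _root_.True := by simp only [_root_.Cfsg.Agent.H866.OZ.av.eq_1]
  try have : _root_.True := by simp only [_root_.Cfsg.Agent.H866.OZ.eX.eq_1]
  try have : _root_.True := by simp only [_root_.Cfsg.Agent.H866.OZ.eta.congr_simp]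
  exact _root_.True.intro
end

-- part: H866/OZ/Mod
section
prune_inst 0x130004100420200001c0002420000c458000000000300001864080001079202200306415c400c080012044000098000000000300010000000008600000501208ca870027201f18426001f800105010000000000000000000000000000041000004010000
set_option linter.all false
open scoped Cfsg.Agent.FastGrp

/-!
# S4842: the fixed points of `U` and of the radicals `V_i` in an irreducible representation (helper866)

* `scalar_M`  : `g + g⁻¹` is a scalar on `V^U` if `N` maps `g` to `g` or `g⁻¹`;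
* `finrank_M` : `2 dim V^U ≤ |W|` if `V^U` contains an eigenvector of `T` and `θ_i`;
* `finrank_V` : if `V^U = 0`, then `dim V^(V_i)` is `d` or `2 d`, where `d` divides the order of `L_i`.
-/

set_option autoImplicit false
set_option linter.unusedSectionVars false
set_option maxHeartbeats 400000

namespace Cfsg.Agent.H866.OZ

open CoxeterSystem Cfsg.Agent.ChevalleyStructure.CoxeterGeom Cfsg.Agent.Tits.Roots Cfsg.Agent.Tits.Core
  Cfsg.Agent.Tits.Exchange Cfsg.Agent.Nodes.Reps Cfsg.Agent.Nodes.BNOf Cfsg.Agent.Nodes.StabComb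
  Cfsg.Agent.Nodes.Bruhat Cfsg.Agent.Nodes.OppDec Cfsg.Agent.Nodes.LeviDec Cfsg.Agent.Nodes.NormalForm
open Cfsg.Agent.H866.D4Wf (eq_of_mem_RootsJ)
open Cfsg.Agent.ChevalleyStructure.SL2Hom (up lo mem_closure_SL2)
open Cfsg.Agent.Nodes.RGDFoldSL (wS hS coe_wS coe_hS)
open Cfsg.Agent.H631.Kaw (S)
open LinearMap (trace)

section Kill

variable {Y : Type*} [Group Y] {V : Type*} [AddCommGroup V] [Module ℂ V] (ρ : Representation ℂ Y V)

/-- killing, for a map to another space -/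
theorem irr_kill' (hρ : ρ.IsIrreducible) {V' : Type*} [AddCommGroup V'] [Module ℂ V'] {y : V →ₗ[ℂ] V'} {f : V}
    (hf : f ≠ 0) (h : ∀ g, y (ρ g f) = 0) : y = 0 := by
  let K : Subrepresentation ρ :=
    { toSubmodule := ⨅ g : Y, LinearMap.ker (y ∘ₗ ρ g)
      apply_mem_toSubmodule := by
        intro a v hv
        rw [Submodule.mem_iInf] at hv ⊢
        intro g
        have h1 := hv (g * a)
        rw [LinearMap.mem_ker] at h1 ⊢
        rw [map_mul] at h1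
        exact h1 }
  have hK : K = ⊥ ∨ K = ⊤ := hρ.eq_bot_or_eq_top K
  have hfK : f ∈ K.toSubmodule := by
    show f ∈ ⨅ g : Y, LinearMap.ker (y ∘ₗ ρ g)
    rw [Submodule.mem_iInf]
    intro g
    rw [LinearMap.mem_ker]
    exact h g
  rcases hK with hK | hK
  · rw [hK] at hfK
    exact absurd ((Submodule.mem_bot ℂ).1 hfK) hf
  · ext v
    have h1 : v ∈ K.toSubmodule := by rw [hK]; exact Submodule.mem_top
    have h2 : v ∈ ⨅ g : Y, LinearMap.ker (y ∘ₗ ρ g) := h1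
    rw [Submodule.mem_iInf] at h2
    have h3 := h2 1
    rw [LinearMap.mem_ker, map_one] at h3
    exact h3

theorem irr_range (hρ : ρ.IsIrreducible) (y : Module.End ℂ V) {f : V} (hf : f ≠ 0) (U : Submodule ℂ V)
    (h : ∀ g, y (ρ g f) ∈ U) : LinearMap.range y ≤ U := by
  have h1 := irr_kill' ρ hρ (y := U.mkQ ∘ₗ y) hf fun g => by
    rw [LinearMap.comp_apply, Submodule.mkQ_apply, Submodule.Quotient.mk_eq_zero]
    exact h g
  rintro _ ⟨v, rfl⟩
  have h2 := LinearMap.congr_fun h1 v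
  rw [LinearMap.comp_apply, Submodule.mkQ_apply, LinearMap.zero_apply, Submodule.Quotient.mk_eq_zero] at h2
  exact h2

end Kill

variable {I W Y : Type*} [Fintype I] [DecidableEq I] [Group W] [Group Y] [Finite Y] {M : CoxeterMatrix I}
  {cs : CoxeterSystem M W} {A : I → I → ℤ} {h : IsCartan M A} {p : ℕ} {T : Subgroup Y} {n : I → Y}
  {X : (I → ℤ) → Subgroup Y} {V : Type*} [AddCommGroup V] [Module ℂ V] {ρ : Representation ℂ Y V}
  (R : RGD cs h p T n X)

include R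

/-- `e_U (u k u') f = e_U k f` -/
theorem eU_unu {u k u' : Y} (hu : u ∈ RGD.Sup X (RGD.Pos cs h)) (hu' : u' ∈ RGD.Sup X (RGD.Pos cs h)) {f : V}
    (hf : ∀ u ∈ RGD.Sup X (RGD.Pos cs h), ρ u f = f) :
    eU ρ cs h X (ρ (u * k * u') f) = eU ρ cs h X (ρ k f) := by
  rw [mul_assoc, apply_mul R, eU_absorb R hu, apply_mul R, hf _ hu']

theorem comm_eU_apply {t : Y} (ht : t ∈ T) (v : V) : ρ t (eU ρ cs h X v) = eU ρ cs h X (ρ t v) :=
  LinearMap.congr_fun (T_comm_eU R ht) v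

section Scal

variable [FiniteDimensional ℂ V]

/-- **`g + g⁻¹` is a scalar on `V^U`** -/
theorem scalar_M [Finite W] (hG : GG cs h T X = ⊤) (hρ : ρ.IsIrreducible) {g : Y} (hg : g ∈ T)
    (hN : ∀ (w : W) (k : Y), Rp cs R.nsys w k → k⁻¹ * g * k = g ∨ k⁻¹ * g * k = g⁻¹) :
    ∃ κ : ℂ, (ρ g + ρ g⁻¹ : Module.End ℂ V) * eU ρ cs h X = κ • eU ρ cs h X := by
  by_cases h0 : eU ρ cs h X = 0
  · exact ⟨0, by rw [h0, mul_zero, smul_zero]⟩
  have hst : ∀ v ∈ LinearMap.range (eU ρ cs h X), (ρ g + ρ g⁻¹ : Module.End ℂ V) v ∈ LinearMap.range (eU ρ cs h X) := by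
    rintro _ ⟨v, rfl⟩
    refine ⟨(ρ g + ρ g⁻¹ : Module.End ℂ V) v, ?_⟩
    rw [LinearMap.add_apply, LinearMap.add_apply, map_add, ← comm_eU_apply R hg, ← comm_eU_apply R (inv_mem hg)]
  have hnt : Nontrivial (LinearMap.range (eU ρ cs h X)) := by
    rw [Submodule.nontrivial_iff_ne_bot]
    intro h1
    exact h0 (LinearMap.range_eq_bot.1 h1)
  obtain ⟨κ, hκ⟩ := Module.End.exists_eigenvalue ((ρ g + ρ g⁻¹ : Module.End ℂ V).restrict hst)
  obtain ⟨⟨f, hf⟩, hf1⟩ := hκ.exists_hasEigenvector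
  have hf0 : f ≠ 0 := fun h1 => hf1.2 (Subtype.ext h1)
  have hfe : (ρ g + ρ g⁻¹ : Module.End ℂ V) f = κ • f := by
    have h1 := hf1.1
    rw [Module.End.mem_eigenspace_iff] at h1
    exact congrArg Subtype.val h1
  have hfU : ∀ u ∈ RGD.Sup X (RGD.Pos cs h), ρ u f = f := by
    intro u hu
    obtain ⟨v, rfl⟩ := hf
    exact eU_fix R hu v
  refine ⟨κ, ?_⟩
  have key := irr_kill ρ hρ (y := (ρ g + ρ g⁻¹ : Module.End ℂ V) * eU ρ cs h X - κ • eU ρ cs h X) hf0 fun x => ?_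
  · exact sub_eq_zero.1 key
  obtain ⟨u, hu, w, k, hk, u', hu', rfl⟩ := exists_unu R hG x
  rw [LinearMap.sub_apply, LinearMap.smul_apply, Module.End.mul_apply, eU_unu R hu hu' hfU, LinearMap.add_apply,
    comm_eU_apply R hg, comm_eU_apply R (inv_mem hg), ← map_add, ← apply_mul R, ← apply_mul R]
  have e1 : g * k = k * (k⁻¹ * g * k) := by group
  have e2 : g⁻¹ * k = k * (k⁻¹ * g * k)⁻¹ := by group
  have e3 : ρ (g * k) f + ρ (g⁻¹ * k) f = ρ k (κ • f) := by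
    rw [e1, e2, apply_mul R k, apply_mul R k, ← map_add]
    congr 1
    rw [← hfe, LinearMap.add_apply]
    rcases hN w k hk with h1 | h1
    · rw [h1]
    · rw [h1, inv_inv, add_comm]
  rw [e3, map_smul, map_smul, sub_self]

/-- the number of the `w` with `w α_i > 0` is half of the order of `W` -/
theorem two_mul_card [Finite W] (i : I) : 2 * Nat.card {w : W // 0 ≤ rep cs h w (sr i)} = Nat.card W := by
  classical
  have := Fintype.ofFinite W
  have h1 : ∀ w : W, 0 ≤ rep cs h (w * cs.simple i) (sr i) ↔ ¬ 0 ≤ rep cs h w (sr i) := by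
    intro w
    rw [rep_mul_apply, rep_simple_sr, map_neg]
    constructor
    · intro h2 h3
      exact ((isRoot_sr cs h i).act w).not_pos_neg h3 (neg_nonneg.1 h2)
    · intro h2
      exact neg_nonneg.2 ((((isRoot_sr cs h i).act w).pos_or_neg).resolve_left h2)
  have h2 : Nat.card {w : W // ¬ 0 ≤ rep cs h w (sr i)} = Nat.card {w : W // 0 ≤ rep cs h w (sr i)} := by
    refine Nat.card_congr ⟨fun w => ⟨w.1 * cs.simple i, (h1 _).2 w.2⟩, fun w => ⟨w.1 * cs.simple i, ?_⟩, ?_, ?_⟩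
    · rw [h1, not_not]
      exact w.2
    · intro w
      exact Subtype.ext (by simp [mul_assoc])
    · intro w
      exact Subtype.ext (by simp [mul_assoc])
  rw [Nat.card_eq_fintype_card, Nat.card_eq_fintype_card] at h2
  rw [Nat.card_eq_fintype_card, Nat.card_eq_fintype_card]
  have h3 := Fintype.card_subtype_compl (fun w : W => 0 ≤ rep cs h w (sr i))
  have h4 := Fintype.card_subtype_le (fun w : W => 0 ≤ rep cs h w (sr i))
  rw [h2] at h3
  omega

/-- **`2 dim V^U ≤ |W|`** -/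
theorem finrank_M [Finite W] (hG : GG cs h T X = ⊤) (hρ : ρ.IsIrreducible) {i : I} {v : V} (hv : v ≠ 0)
    (hvU : ∀ u ∈ RGD.Sup X (RGD.Pos cs h), ρ u v = v) (hvT : ∀ t ∈ T, ∃ c : ℂ, ρ t v = c • v) {c : ℂ}
    (hc : eU ρ cs h X (ρ (n i) v) = c • v) :
    2 * Module.finrank ℂ (LinearMap.range (eU ρ cs h X)) ≤ Nat.card W := by
  classical
  choose kk hkk using exists_rp cs R.nsys
  set b : {w : W // 0 ≤ rep cs h w (sr i)} → V := fun w => eU ρ cs h X (ρ (kk w.1) v) with hb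
  have hle : LinearMap.range (eU ρ cs h X) ≤ Submodule.span ℂ (Set.range b) := by
    -- elements of the normaliser
    have h1 : ∀ (w : W) (k : Y), Rp cs R.nsys w k → 0 ≤ rep cs h w (sr i) →
        eU ρ cs h X (ρ k v) ∈ Submodule.span ℂ (Set.range b) := by
      intro w k hk hw
      have h2 : (kk w)⁻¹ * k ∈ T := (hkk w).unique hk
      obtain ⟨d, hd⟩ := hvT _ h2
      have h3 : k = kk w * ((kk w)⁻¹ * k) := by group
      rw [h3, apply_mul R, hd, map_smul, map_smul]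
      exact Submodule.smul_mem _ _ (Submodule.subset_span ⟨⟨w, hw⟩, rfl⟩)
    refine irr_range ρ hρ _ hv _ fun g => ?_
    obtain ⟨u, hu, w, k, hk, u', hu', rfl⟩ := exists_unu R hG g
    rw [eU_unu R hu hu' hvU]
    by_cases hw : 0 ≤ rep cs h w (sr i)
    · exact h1 w k hk hw
    · -- `k = k' n_i`
      have hk' : Rp cs R.nsys (w * cs.simple i) (k * (n i)⁻¹) := by
        have := hk.mul (rp_simple cs R.nsys i).inv
        rwa [cs.inv_simple] at this
      have hw' : 0 ≤ rep cs h (w * cs.simple i) (sr i) := by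
        rw [rep_mul_apply, rep_simple_sr, map_neg]
        exact neg_nonneg.2 ((((isRoot_sr cs h i).act w).pos_or_neg).resolve_left hw)
      have hfixV : ∀ u ∈ VJ cs h X {i}, ρ u (ρ (n i) v) = ρ (n i) v := by
        intro u hu
        have h3 : u * n i = n i * ((n i)⁻¹ * u * n i) := by group
        have h4 : (n i)⁻¹ * u * n i ∈ VJ cs h X {i} := by
          have := (Subgroup.mem_normalizer_iff.1 (inv_mem (n_mem_normalizer_VJ R i)) u).1 hu
          rwa [inv_inv] at this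
        rw [← apply_mul R, h3, apply_mul R, hvU _ (VJ_le_U {i} h4)]
      have h5 : eU ρ cs h X (ρ (k * (n i)⁻¹) (eU ρ cs h X (ρ (n i) v))) = eU ρ cs h X (ρ k v) := by
        have h6 : eU ρ cs h X (ρ (n i) v) = av ρ (X (sr i)) (ρ (n i) v) := by
          rw [eU_eq R i, Module.End.mul_apply]
          congr 1
          exact av_vec ρ hfixV
        have h7 : eU ρ cs h X * ρ (k * (n i)⁻¹) * av ρ (X (sr i)) = eU ρ cs h X * ρ (k * (n i)⁻¹) := by
          refine av_of_right ρ fun x hx => ?_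
          rw [mul_assoc, ← map_mul]
          have h8 : k * (n i)⁻¹ * x = (k * (n i)⁻¹ * x * (k * (n i)⁻¹)⁻¹) * (k * (n i)⁻¹) := by group
          have h9 : k * (n i)⁻¹ * x * (k * (n i)⁻¹)⁻¹ ∈ RGD.Sup X (RGD.Pos cs h) :=
            RGD.le_Sup (S := RGD.Pos cs h) ⟨(isRoot_sr cs h i).act _, hw'⟩
              (R.conj_mem hk' (isRoot_sr cs h i) hx)
          rw [h8, map_mul, ← mul_assoc]
          have h10 : eU ρ cs h X * ρ (k * (n i)⁻¹ * x * (k * (n i)⁻¹)⁻¹) = eU ρ cs h X := av_mul ρ h9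
          rw [h10]
        rw [h6]
        have h11 := LinearMap.congr_fun h7 (ρ (n i) v)
        have h12 : (eU ρ cs h X * ρ (k * (n i)⁻¹) * av ρ (X (sr i))) (ρ (n i) v) =
          eU ρ cs h X (ρ (k * (n i)⁻¹) (av ρ (X (sr i)) (ρ (n i) v))) := rfl
        have h13 : (eU ρ cs h X * ρ (k * (n i)⁻¹)) (ρ (n i) v) = eU ρ cs h X (ρ (k * (n i)⁻¹) (ρ (n i) v)) := rfl
        rw [h12, h13, ← apply_mul R (k * (n i)⁻¹), inv_mul_cancel_right] at h11
        exact h11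
      rw [← h5, hc, map_smul, map_smul]
      exact Submodule.smul_mem _ _ (h1 _ _ hk' hw')
  have h2 : Module.finrank ℂ (LinearMap.range (eU ρ cs h X)) ≤ Nat.card {w : W // 0 ≤ rep cs h w (sr i)} := by
    have := Fintype.ofFinite {w : W // 0 ≤ rep cs h w (sr i)}
    rw [Nat.card_eq_fintype_card]
    exact (Submodule.finrank_mono hle).trans (finrank_range_le_card b)
  rw [← two_mul_card R i]
  exact Nat.mul_le_mul_left 2 h2


omit R in
/-- a common eigenvector of a commutative group in the image of an idempotent -/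
theorem exists_eigen_T {π : Module.End ℂ V} (hππ : π * π = π) (hπ : ∀ t ∈ T, ρ t * π = π * ρ t) (hπ0 : π ≠ 0)
    (hT : ∀ s ∈ T, ∀ t ∈ T, s * t = t * s) :
    ∃ v : V, v ≠ 0 ∧ π v = v ∧ ∀ t ∈ T, ∃ c : ℂ, ρ t v = c • v := by
  have hst : ∀ t : T, ∀ v ∈ LinearMap.range π, ρ t v ∈ LinearMap.range π := by
    rintro t _ ⟨v, rfl⟩
    exact ⟨ρ t v, (LinearMap.congr_fun (hπ t t.2) v).symm⟩
  let σ : T →* Module.End ℂ (LinearMap.range π) :=
    { toFun := fun t => (ρ t).restrict (hst t)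
      map_one' := by
        ext v
        show ρ ((1 : T) : Y) (v : V) = v
        rw [OneMemClass.coe_one, map_one]
        rfl
      map_mul' := by
        intro a b
        ext v
        show ρ ((a * b : T) : Y) (v : V) = ρ a (ρ b v)
        rw [Subgroup.coe_mul, map_mul]
        rfl }
  have hnt : Nontrivial (LinearMap.range π) := by
    rw [Submodule.nontrivial_iff_ne_bot]
    intro h1
    exact hπ0 (LinearMap.range_eq_bot.1 h1)
  obtain ⟨⟨v, hv⟩, hv0, hvc⟩ := Cfsg.Agent.H456.exists_common_eigenvector σ (⊤ : Subgroup T)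
    fun a _ b _ => Subtype.ext (hT a a.2 b b.2)
  refine ⟨v, fun h1 => hv0 (Subtype.ext h1), ?_, fun t ht => ?_⟩
  · obtain ⟨x, rfl⟩ := hv
    exact LinearMap.congr_fun hππ x
  · obtain ⟨c, hc⟩ := hvc ⟨t, ht⟩ (Subgroup.mem_top _)
    exact ⟨c, congrArg Subtype.val hc⟩

/-- `e_(V_j) k f = 0` -/
theorem key_zero [Finite W] (h0 : eU ρ cs h X = 0) {i j : I} {f : V} (hf : ∀ u ∈ VJ cs h X {i}, ρ u f = f) {w : W}
    {k : Y} (hk : Rp cs R.nsys w k) (hw1 : rep cs h w⁻¹ (sr j) ≠ sr i) (hw2 : rep cs h w⁻¹ (sr j) ≠ -sr i) :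
    eV ρ cs h X j (ρ k f) = 0 := by
  have hz : ∀ v : V, (∀ u ∈ RGD.Sup X (RGD.Pos cs h), ρ u v = v) → v = 0 := by
    intro v hv
    rw [← eU_of_fix R hv, h0]
    rfl
  have hr := (isRoot_sr cs h j).act w⁻¹
  rcases hr.pos_or_neg with h1 | h1
  · refine hz _ (fix_pos R hk fun u hu => ?_)
    refine hf u (RGD.le_Sup (S := NotJ cs h {i}) ?_ hu)
    rcases mem_PosJ_or_NotJ {i} hr h1 with h2 | h2
    · exfalso
      rcases eq_of_mem_RootsJ R (PosJ_subset {i} h2) with h3 | h3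
      · exact hw1 h3
      · exact hw2 h3
    · exact h2
  · have h2 : ρ (n j)⁻¹ (eV ρ cs h X j (ρ k f)) = 0 := by
      refine hz _ (fix_neg R hk (f := f) fun u hu => ?_)
      refine hf u (RGD.le_Sup (S := NotJ cs h {i}) ?_ hu)
      rw [map_neg]
      rcases mem_PosJ_or_NotJ {i} hr.neg (neg_nonneg.2 h1) with h2 | h2
      · exfalso
        rcases eq_of_mem_RootsJ R (PosJ_subset {i} h2) with h3 | h3
        · exact hw2 (by rw [← h3, neg_neg])
        · exact hw1 (neg_injective h3)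
      · exact h2
    have h3 := congrArg (ρ (n j)) h2
    rw [← apply_mul R, mul_inv_cancel, map_one, map_zero] at h3
    exact h3

/-- **the dimension of `V^(V_i)`, `V^U = 0`** -/
theorem finrank_V [Finite W] (hG : GG cs h T X = ⊤) (hρ : ρ.IsIrreducible) (h0 : eU ρ cs h X = 0) {i : I}
    (hV : eV ρ cs h X i ≠ 0) {n' : Y} (hn' : ∀ l ∈ LJ cs h T X {i}, n'⁻¹ * l * n' ∈ LJ cs h T X {i} ∧
      n' * l * n'⁻¹ ∈ LJ cs h T X {i})
    (hdich : ∀ (w : W) (k : Y), Rp cs R.nsys w k → (rep cs h w⁻¹ (sr i) = sr i ∨ rep cs h w⁻¹ (sr i) = -sr i) →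
      k ∈ LJ cs h T X {i} ∨ n'⁻¹ * k ∈ LJ cs h T X {i}) :
    ∃ d : ℕ, d ∣ Nat.card (LJ cs h T X {i}) ∧ (Module.finrank ℂ (LinearMap.range (eV ρ cs h X i)) = d ∨
      Module.finrank ℂ (LinearMap.range (eV ρ cs h X i)) = 2 * d) := by
  classical
  set L := LJ cs h T X {i} with hL
  have hLn : ∀ l ∈ L, l ∈ Subgroup.normalizer (VJ cs h X {i} : Set Y) := fun l hl => LJ_le_normalizer_VJ R {i} hl
  let σ : Representation ℂ L V := MonoidHom.comp ρ L.subtype
  have hEst : ∀ l ∈ L, ∀ v ∈ LinearMap.range (eV ρ cs h X i), ρ l v ∈ LinearMap.range (eV ρ cs h X i) := by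
    rintro l hl _ ⟨v, rfl⟩
    exact ⟨ρ l v, eV_comm R (hLn l hl) v⟩
  let EE : Subrepresentation σ :=
    { toSubmodule := LinearMap.range (eV ρ cs h X i)
      apply_mem_toSubmodule := fun l v hv => hEst l l.2 v hv }
  have hnt : Nontrivial EE.toSubmodule := by
    rw [Submodule.nontrivial_iff_ne_bot]
    intro h1
    exact hV (LinearMap.range_eq_bot.1 h1)
  obtain ⟨U, hU⟩ := Cfsg.Agent.Characters.Core.exists_irreducible_sub EE.toRepresentation
  set D := Cfsg.Agent.Characters.Core.mapSub EE U with hD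
  set δ := D.toSubmodule with hδ
  have hδE : δ ≤ LinearMap.range (eV ρ cs h X i) := by
    rintro _ ⟨v, _, rfl⟩
    exact v.2
  have hδst : ∀ l ∈ L, ∀ v ∈ δ, ρ l v ∈ δ := fun l hl v hv => D.apply_mem_toSubmodule ⟨l, hl⟩ hv
  have hfin : Module.finrank ℂ δ = Module.finrank ℂ U.toSubmodule := Submodule.finrank_map_subtype_eq _ _
  have hdvd : Module.finrank ℂ δ ∣ Nat.card L := by
    rw [hfin]
    have := hU
    exact Cfsg.Agent.Characters.DegreeBounds.finrank_dvd_card U.toRepresentation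
  -- minimality
  have hmin : ∀ N : Submodule ℂ V, N ≤ δ → (∀ l ∈ L, ∀ v ∈ N, ρ l v ∈ N) → N = ⊥ ∨ N = δ := by
    intro N hN hNst
    let N' : Subrepresentation U.toRepresentation :=
      { toSubmodule := (N.comap EE.toSubmodule.subtype).comap U.toSubmodule.subtype
        apply_mem_toSubmodule := fun l v hv => hNst l l.2 _ hv }
    have hmap : N = N'.toSubmodule.map (EE.toSubmodule.subtype ∘ₗ U.toSubmodule.subtype) := by
      apply le_antisymm
      · intro v hv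
        obtain ⟨u, hu, rfl⟩ := hN hv
        exact ⟨⟨u, hu⟩, hv, rfl⟩
      · rintro _ ⟨u, hu, rfl⟩
        exact hu
    rcases hU.eq_bot_or_eq_top N' with h1 | h1
    · left
      rw [hmap, h1]
      exact Submodule.map_bot _
    · right
      rw [hmap, h1]
      apply le_antisymm
      · rintro _ ⟨u, _, rfl⟩
        exact ⟨u.1, u.2, rfl⟩
      · rintro _ ⟨u, hu, rfl⟩
        exact ⟨⟨u, hu⟩, Submodule.mem_top, rfl⟩
  have hδ0 : δ ≠ ⊥ := by
    intro h1
    have h2 : Module.finrank ℂ U.toSubmodule = 0 := by rw [← hfin, h1, finrank_bot]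
    have h3 := Cfsg.Agent.Characters.Central.finrank_pos_of_irr U.toRepresentation hU
    omega
  have hδV : ∀ v ∈ δ, ∀ u ∈ VJ cs h X {i}, ρ u v = v := by
    intro v hv u hu
    obtain ⟨x, rfl⟩ := hδE hv
    exact eV_fix R hu x
  obtain ⟨f, hf, hf0⟩ := Submodule.exists_mem_ne_zero_of_ne_bot hδ0
  -- the map `x`
  set x : Module.End ℂ V := eV ρ cs h X i * ρ n' with hx
  have hxapp : ∀ v, x v = eV ρ cs h X i (ρ n' v) := fun v => rfl
  have hxl : ∀ l ∈ L, ∀ v, ρ l (x v) = x (ρ (n'⁻¹ * l * n') v) := by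
    intro l hl v
    rw [hxapp, hxapp, ← eV_comm R (hLn l hl), ← apply_mul R, ← apply_mul R]
    congr 3
    group
  have hxl' : ∀ l ∈ L, ∀ v, x (ρ l v) = ρ (n' * l * n'⁻¹) (x v) := by
    intro l hl v
    rw [hxl _ ((hn' l hl).2)]
    congr 3
    group
  have hXst : ∀ l ∈ L, ∀ v ∈ δ.map x, ρ l v ∈ δ.map x := by
    rintro l hl _ ⟨v, hv, rfl⟩
    exact ⟨_, hδst _ (hn' l hl).1 v hv, (hxl l hl v).symm⟩
  have hEeq : LinearMap.range (eV ρ cs h X i) = δ ⊔ δ.map x := by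
    apply le_antisymm
    · have hst : ∀ l ∈ L, ∀ v ∈ δ ⊔ δ.map x, ρ l v ∈ δ ⊔ δ.map x := by
        intro l hl v hv
        obtain ⟨a, ha, b, hb, rfl⟩ := Submodule.mem_sup.1 hv
        rw [map_add]
        exact Submodule.add_mem_sup (hδst l hl a ha) (hXst l hl b hb)
      have hXL : ∀ a ∈ X (sr i), a ∈ L := fun a ha =>
        X_le_LJ (PosJ_subset {i} (sr_mem_PosJ (Set.mem_singleton i))) ha
      refine irr_range ρ hρ _ hf0 _ fun g => ?_
      obtain ⟨u, hu, w, k, hk, u', hu', rfl⟩ := exists_unu R hG g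
      obtain ⟨a, ha, b, hb, e⟩ := mem_U_split R i (inv_mem hu)
      have e' : u = b⁻¹ * a⁻¹ := by rw [← mul_inv_rev, ← e, inv_inv]
      obtain ⟨a', ha', b', hb', e2⟩ := mem_U_split R i hu'
      rw [e', mul_assoc, mul_assoc, apply_mul R, eV_absorb R (inv_mem hb), apply_mul R,
        eV_comm R (X_le_normalizer_VJ R i (inv_mem ha)), apply_mul R]
      refine hst _ (hXL _ (inv_mem ha)) _ ?_
      have hf' : ρ u' f ∈ δ := by
        rw [e2, apply_mul R, hδV f hf _ hb']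
        exact hδst _ (hXL _ ha') f hf
      by_cases hw : rep cs h w⁻¹ (sr i) = sr i ∨ rep cs h w⁻¹ (sr i) = -sr i
      · rcases hdich w k hk hw with h1 | h1
        · refine Submodule.mem_sup_left ?_
          have h2 := hδst k h1 _ hf'
          have h3 : eV ρ cs h X i (ρ k (ρ u' f)) = ρ k (ρ u' f) := av_vec ρ (hδV _ h2)
          rw [h3]
          exact h2
        · refine Submodule.mem_sup_right ⟨ρ (n'⁻¹ * k) (ρ u' f), hδst _ h1 _ hf', ?_⟩
          rw [hxapp, ← apply_mul R, mul_inv_cancel_left]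
      · push Not at hw
        rw [key_zero R h0 (hδV _ hf') hk hw.1 hw.2]
        exact Submodule.zero_mem _
    · refine sup_le hδE ?_
      rintro _ ⟨v, _, rfl⟩
      exact ⟨_, rfl⟩
  refine ⟨Module.finrank ℂ δ, hdvd, ?_⟩
  have hker := hmin (δ ⊓ LinearMap.ker x) inf_le_left fun l hl v hv => by
    refine ⟨hδst l hl v hv.1, ?_⟩
    rw [SetLike.mem_coe, LinearMap.mem_ker, hxl' l hl, (LinearMap.mem_ker.1 hv.2), map_zero]
  rcases hker with hker | hker
  · -- injective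
    have hfx : Module.finrank ℂ (δ.map x) = Module.finrank ℂ δ := by
      have h1 : Function.Injective (x.domRestrict δ) := by
        rw [← LinearMap.ker_eq_bot, eq_bot_iff]
        intro v hv
        have h2 : (v : V) ∈ δ ⊓ LinearMap.ker x := ⟨v.2, hv⟩
        rw [hker, Submodule.mem_bot] at h2
        exact (Submodule.mem_bot ℂ).2 (Subtype.ext h2)
      have h2 : δ.map x = LinearMap.range (x.domRestrict δ) := by
        rw [LinearMap.range_domRestrict]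
      rw [h2]
      exact LinearMap.finrank_range_of_inj h1
    rcases hmin (δ ⊓ δ.map x) inf_le_left fun l hl v hv => ⟨hδst l hl v hv.1, hXst l hl v hv.2⟩ with h1 | h1
    · right
      have h2 := Submodule.finrank_sup_add_finrank_inf_eq δ (δ.map x)
      rw [h1, finrank_bot, hfx] at h2
      rw [hEeq]
      omega
    · left
      have h2 : δ ≤ δ.map x := inf_eq_left.1 h1
      have h3 : δ = δ.map x := Submodule.eq_of_le_of_finrank_eq h2 hfx.symm
      rw [hEeq, ← h3, sup_idem]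
  · left
    have h1 : δ.map x = ⊥ := by
      rw [eq_bot_iff]
      rintro _ ⟨v, hv, rfl⟩
      have h2 : v ∈ δ ⊓ LinearMap.ker x := by rw [hker]; exact hv
      exact (Submodule.mem_bot ℂ).2 (LinearMap.mem_ker.1 h2.2)
    rw [hEeq, h1, sup_bot_eq]

end Scal

end Cfsg.Agent.H866.OZ
end

-- part: H866/OZ/KawTwo
section
prune_inst 0x202000000000000000000002000020004a000002000308004820000008431000004206409a100c000002089400090020010000000200000000000000011801800000000000400000120000002083000000000000000000000000000000041000000000000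
set_option linter.all false
open scoped Cfsg.Agent.FastGrp

-- part: H866/OZ/Kawa
section
/-!
# S4842: the sum of a character over the `p`-elements (helper866)

* `kaw_sum` : the alternating sum formula;
* `lam_nonneg` : it is a nonnegative multiple of the degree if `V^U ≠ 0`.
-/

set_option autoImplicit false
set_option linter.unusedSectionVars false
set_option maxHeartbeats 400000

namespace Cfsg.Agent.H866.OZ

open CoxeterSystem Cfsg.Agent.ChevalleyStructure.CoxeterGeom Cfsg.Agent.Tits.Roots Cfsg.Agent.Tits.Core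
  Cfsg.Agent.Tits.Exchange Cfsg.Agent.Nodes.Reps Cfsg.Agent.Nodes.BNOf Cfsg.Agent.Nodes.StabComb
  Cfsg.Agent.Nodes.Bruhat Cfsg.Agent.Nodes.OppDec Cfsg.Agent.Nodes.LeviDec Cfsg.Agent.Nodes.NormalForm
open Cfsg.Agent.H866.D4Wf (eq_of_mem_RootsJ)
open Cfsg.Agent.H631.Kaw (S pel mem_pel fixV coef coef_eq_one coef_of_not_mem card_eq_fixV)
open Cfsg.Agent.H769.Kaw (kaw_cusp sm)
open LinearMap (trace)
open scoped ComplexOrder

variable {I W Y : Type*} [Fintype I] [DecidableEq I] [Group W] [Group Y] [Finite Y] {M : CoxeterMatrix I}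
  {cs : CoxeterSystem M W} {A : I → I → ℤ} {h : IsCartan M A} {p : ℕ} {T : Subgroup Y} {n : I → Y}
  {X : (I → ℤ) → Subgroup Y} {V : Type*} [AddCommGroup V] [Module ℂ V] [FiniteDimensional ℂ V]
  {ρ : Representation ℂ Y V} (R : RGD cs h p T n X)

include R

/-- one term of the alternating sum -/
theorem sum_fixV [Finite W] [Fintype Y] (K : Finset I) :
    (Nat.card (PJ cs h T X (K : Set I)) : ℂ) * ∑ g : Y, (fixV cs h T X K g : ℂ) * trace ℂ V (ρ g) =
      (Nat.card Y : ℂ) * ((Nat.card (VJ cs h X (K : Set I)) : ℂ) * trace ℂ V (av ρ (VJ cs h X (K : Set I)))) := by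
  classical
  have h1 : ∀ g : Y, (Nat.card (PJ cs h T X (K : Set I)) : ℂ) * ((fixV cs h T X K g : ℂ) * trace ℂ V (ρ g)) =
      ∑ x : Y, if x⁻¹ * g * x ∈ VJ cs h X (K : Set I) then trace ℂ V (ρ g) else 0 := by
    intro g
    rw [← mul_assoc, ← Nat.cast_mul, ← card_eq_fixV R K g, ← Finset.sum_filter, Finset.sum_const, nsmul_eq_mul,
      Nat.card_eq_fintype_card, Fintype.card_subtype]
  rw [Finset.mul_sum, Finset.sum_congr rfl fun g _ => h1 g, Finset.sum_comm]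
  have h2 : ∀ x : Y, (∑ g : Y, if x⁻¹ * g * x ∈ VJ cs h X (K : Set I) then trace ℂ V (ρ g) else 0) =
      (Nat.card (VJ cs h X (K : Set I)) : ℂ) * trace ℂ V (av ρ (VJ cs h X (K : Set I))) := by
    intro x
    rw [trace_av_eq]
    have h3 : (Set.toFinite ((VJ cs h X (K : Set I) : Subgroup Y) : Set Y)).toFinset =
        Finset.univ.filter (fun g => g ∈ VJ cs h X (K : Set I)) := by
      ext y; simp
    rw [h3, Finset.sum_filter, ← Equiv.sum_comp (MulAut.conj x).toEquiv]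
    refine Finset.sum_congr rfl fun g _ => ?_
    show (if x⁻¹ * (MulAut.conj x g) * x ∈ VJ cs h X (K : Set I) then trace ℂ V (ρ (MulAut.conj x g)) else 0) =
      if g ∈ VJ cs h X (K : Set I) then trace ℂ V (ρ g) else 0
    have h4 : x⁻¹ * (MulAut.conj x g) * x = g := by rw [MulAut.conj_apply]; group
    have h5 : trace ℂ V (ρ (MulAut.conj x g)) = trace ℂ V (ρ g) := by
      rw [MulAut.conj_apply, map_mul ρ, LinearMap.trace_mul_comm, ← map_mul, ← mul_assoc, inv_mul_cancel, one_mul]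
    rw [h4, h5]
  rw [Finset.sum_congr rfl fun x _ => h2 x, Finset.sum_const, Finset.card_univ, nsmul_eq_mul,
    Nat.card_eq_fintype_card (α := Y)]

/-- **the sum over the `p`-elements** -/
theorem kaw_sum [Finite W] [Fact p.Prime] (hG : GG cs h T X = ⊤) :
    ∑ g ∈ pel Y p, trace ℂ V (ρ g) = ∑ K : Finset I, (-1 : ℂ) ^ K.card * (Nat.card (UJ cs h X (K : Set I)) : ℂ) *
      ((Nat.card Y : ℂ) / (Nat.card (PJ cs h T X (K : Set I)) : ℂ)) *
      ((Nat.card (VJ cs h X (K : Set I)) : ℂ) * trace ℂ V (av ρ (VJ cs h X (K : Set I)))) := by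
  classical
  have := Fintype.ofFinite Y
  have h1 : ∑ g ∈ pel Y p, trace ℂ V (ρ g) = ∑ g : Y, (coef cs h T X g : ℂ) * trace ℂ V (ρ g) := by
    rw [← Finset.sum_subset (Finset.subset_univ (pel Y p)) (f := fun g => (coef cs h T X g : ℂ) * trace ℂ V (ρ g))
      fun g _ hg => by rw [coef_of_not_mem R hg, Int.cast_zero, zero_mul]]
    refine Finset.sum_congr rfl fun g hg => ?_
    rw [coef_eq_one R hG hg, Int.cast_one, one_mul]
  rw [h1]
  have h2 : ∀ g : Y, (coef cs h T X g : ℂ) * trace ℂ V (ρ g) = ∑ K : Finset I, (-1 : ℂ) ^ K.card *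
      (Nat.card (UJ cs h X (K : Set I)) : ℂ) * ((fixV cs h T X K g : ℂ) * trace ℂ V (ρ g)) := by
    intro g
    unfold coef
    push_cast
    rw [Finset.sum_mul]
    exact Finset.sum_congr rfl fun K _ => by ring
  rw [Finset.sum_congr rfl fun g _ => h2 g, Finset.sum_comm]
  refine Finset.sum_congr rfl fun K _ => ?_
  rw [← Finset.mul_sum]
  have h3 := sum_fixV (ρ := ρ) R K
  have h4 : (Nat.card (PJ cs h T X (K : Set I)) : ℂ) ≠ 0 := card_ne _
  rw [mul_assoc, mul_assoc, mul_assoc]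
  congr 2
  rw [div_mul_eq_mul_div, eq_div_iff h4, mul_comm]
  exact h3


theorem VJ_empty : VJ cs h X (((∅ : Finset I) : Set I)) = RGD.Sup X (RGD.Pos cs h) := by
  apply le_antisymm (VJ_le_U _)
  refine RGD.Sup_le fun x hx => RGD.le_Sup (S := NotJ cs h _) ?_
  rcases mem_PosJ_or_NotJ (((∅ : Finset I) : Set I)) hx.1 hx.2 with h1 | h1
  · exfalso
    apply hx.1.ne_zero
    funext k
    exact h1.2.2 k (by simp)
  · exact h1

theorem UJ_empty : UJ cs h X (((∅ : Finset I) : Set I)) = ⊥ := by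
  rw [eq_bot_iff]
  refine RGD.Sup_le fun x hx => ?_
  exact absurd (funext fun k => hx.2.2 k (by simp)) hx.1.ne_zero

omit R in
/-- an invariant hermitian form -/
noncomputable def hb {N : ℕ} (ρ : Representation ℂ Y (Fin N → ℂ)) [Fintype Y] (v w : Fin N → ℂ) : ℂ :=
  ∑ g : Y, dotProduct (star (ρ g v)) (ρ g w)

omit R in
theorem hb_inv {N : ℕ} (ρ : Representation ℂ Y (Fin N → ℂ)) [Fintype Y] (x : Y) (v w : Fin N → ℂ) :
    hb ρ (ρ x v) (ρ x w) = hb ρ v w := by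
  unfold hb
  rw [← Equiv.sum_comp (Equiv.mulRight x) (fun g => dotProduct (star (ρ g v)) (ρ g w))]
  refine Finset.sum_congr rfl fun g _ => ?_
  show dotProduct (star (ρ g (ρ x v))) (ρ g (ρ x w)) = dotProduct (star (ρ (g * x) v)) (ρ (g * x) w)
  rw [map_mul]
  rfl

omit R in
theorem hb_adj {N : ℕ} (ρ : Representation ℂ Y (Fin N → ℂ)) [Fintype Y] (x : Y) (v w : Fin N → ℂ) :
    hb ρ v (ρ x w) = hb ρ (ρ x⁻¹ v) w := by
  rw [← hb_inv ρ x⁻¹ v (ρ x w)]
  congr 1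
  have : ρ x⁻¹ (ρ x w) = (ρ x⁻¹ * ρ x) w := rfl
  rw [this, ← map_mul, inv_mul_cancel, map_one]
  rfl

omit R in
theorem hb_sum {N : ℕ} (ρ : Representation ℂ Y (Fin N → ℂ)) [Fintype Y] {ι : Type*} (s : Finset ι)
    (v : Fin N → ℂ) (w : ι → Fin N → ℂ) : hb ρ v (∑ a ∈ s, w a) = ∑ a ∈ s, hb ρ v (w a) := by
  unfold hb
  rw [Finset.sum_comm]
  refine Finset.sum_congr rfl fun g _ => ?_
  rw [map_sum, dotProduct_sum]

omit R in
theorem hb_sum_left {N : ℕ} (ρ : Representation ℂ Y (Fin N → ℂ)) [Fintype Y] {ι : Type*} (s : Finset ι)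
    (v : Fin N → ℂ) (w : ι → Fin N → ℂ) : hb ρ (∑ a ∈ s, w a) v = ∑ a ∈ s, hb ρ (w a) v := by
  unfold hb
  rw [Finset.sum_comm]
  refine Finset.sum_congr rfl fun g _ => ?_
  rw [map_sum, star_sum, sum_dotProduct]

omit R in
theorem hb_smul {N : ℕ} (ρ : Representation ℂ Y (Fin N → ℂ)) [Fintype Y] (c : ℂ) (v w : Fin N → ℂ) :
    hb ρ v (c • w) = c * hb ρ v w := by
  unfold hb
  rw [Finset.mul_sum]
  refine Finset.sum_congr rfl fun g _ => ?_
  rw [map_smul, dotProduct_smul, smul_eq_mul]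

omit R in
theorem hb_nonneg {N : ℕ} (ρ : Representation ℂ Y (Fin N → ℂ)) [Fintype Y] (v : Fin N → ℂ) : 0 ≤ hb ρ v v :=
  Finset.sum_nonneg fun _ _ => dotProduct_star_self_nonneg _

omit R in
theorem hb_pos {N : ℕ} (ρ : Representation ℂ Y (Fin N → ℂ)) [Fintype Y] {v : Fin N → ℂ} (hv : v ≠ 0) : 0 < hb ρ v v := by
  unfold hb
  refine Finset.sum_pos' (fun _ _ => dotProduct_star_self_nonneg _) ⟨1, Finset.mem_univ _, ?_⟩
  rw [map_one]
  exact Matrix.dotProduct_star_self_pos_iff.2 hv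


theorem lam_nonneg [Finite W] [Fact p.Prime] (hG : GG cs h T X = ⊤) {N : ℕ}
    (ρ : Representation ℂ Y (Fin N → ℂ)) (hρ : ρ.IsIrreducible) (h0 : eU ρ cs h X ≠ 0) {c : ℂ}
    (hc : ∑ g ∈ pel Y p, ρ.character g = c * ρ.character 1) : ∃ r s : ℝ, 0 < r ∧ 0 ≤ s ∧ c * r = s := by
  classical
  have := Fintype.ofFinite Y
  obtain ⟨v, hv⟩ : ∃ v, eU ρ cs h X v ≠ 0 := by
    by_contra hcon
    push Not at hcon
    exact h0 (LinearMap.ext hcon)
  set f := eU ρ cs h X v with hf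
  have hfU : ∀ u ∈ RGD.Sup X (RGD.Pos cs h), ρ u f = f := fun u hu => eU_fix R hu v
  -- the central element
  have hcen : ∀ x : Y, (∑ g ∈ pel Y p, ρ g) * ρ x = ρ x * (∑ g ∈ pel Y p, ρ g) := by
    intro x
    rw [Finset.sum_mul, Finset.mul_sum]
    refine Finset.sum_nbij' (fun g => x⁻¹ * g * x) (fun g => x * g * x⁻¹) ?_ ?_ ?_ ?_ ?_
    · intro g hg
      obtain ⟨k, hk⟩ := mem_pel.1 hg
      refine mem_pel.2 ⟨k, ?_⟩
      rw [← hk]
      have h2 : x⁻¹ * g * x = MulAut.conj x⁻¹ g := by rw [MulAut.conj_apply, inv_inv]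
      rw [h2]
      exact MulEquiv.orderOf_eq _ g
    · intro g hg
      obtain ⟨k, hk⟩ := mem_pel.1 hg
      refine mem_pel.2 ⟨k, ?_⟩
      rw [← hk]
      have h2 : x * g * x⁻¹ = MulAut.conj x g := by rw [MulAut.conj_apply]
      rw [h2]
      exact MulEquiv.orderOf_eq _ g
    · intro g _; group
    · intro g _; group
    · intro g _
      rw [← map_mul, ← map_mul]
      congr 1
      group
  have hZ := Cfsg.Agent.Characters.Central.eq_trace_smul_of_comm ρ hρ (∑ g ∈ pel Y p, ρ g) hcen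
  have h1 : trace ℂ (Fin N → ℂ) (∑ g ∈ pel Y p, ρ g) = c * ρ.character 1 := by
    rw [map_sum]
    exact hc
  rw [h1, mul_div_cancel_right₀ _ (Cfsg.Agent.Characters.Central.char_one_ne_zero ρ hρ)] at hZ
  have hZf : ∑ g ∈ pel Y p, ρ g f = c • f := by
    have h2 := LinearMap.congr_fun hZ f
    rw [LinearMap.sum_apply] at h2
    exact h2
  letI act : DistribMulAction Y (Fin N → ℂ) := DistribMulAction.compHom (Fin N → ℂ) (ρ : Y →* Module.End ℂ (Fin N → ℂ))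
  have hact : ∀ (g : Y) (w : Fin N → ℂ), g • w = ρ g w := fun _ _ => rfl
  have hk := kaw_cusp R hG (∅ : Finset I) f (fun v hv => by
    rw [VJ_empty R] at hv
    exact hfU v hv) (fun K' hK' => absurd hK' (Finset.not_ssubset_empty K'))
  have hcard : Nat.card (UJ cs h X (((∅ : Finset I) : Set I))) = 1 := by
    rw [UJ_empty R]
    exact Subgroup.card_bot
  rw [Finset.card_empty, pow_zero, one_smul, hcard, one_smul, VJ_empty R] at hk
  have hk2 : ∑ g : Y, coef cs h T X g • g • f = c • f := by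
    rw [← hZf, ← Finset.sum_subset (Finset.subset_univ (pel Y p)) (f := fun g => coef cs h T X g • g • f)
      fun g _ hg => by rw [coef_of_not_mem R hg, zero_smul]]
    refine Finset.sum_congr rfl fun g hg => ?_
    rw [coef_eq_one R hG hg, one_smul]
    rfl
  rw [hk2] at hk
  set U := RGD.Sup X (RGD.Pos cs h) with hU
  set U' := VNJ cs h X (((∅ : Finset I) : Set I)) with hU'
  set w := sm U' f with hw
  have hsm : ∀ (H : Subgroup Y) (a : Fin N → ℂ), sm H a = ∑ x ∈ Finset.univ.filter (· ∈ H), ρ x a := fun _ _ => rfl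
  have hcardH : ∀ H : Subgroup Y, ((Finset.univ.filter (· ∈ H)).card : ℂ) = (Nat.card H : ℂ) := by
    intro H
    rw [← Fintype.card_subtype, Nat.card_eq_fintype_card]
  -- the two computations
  have e1 : hb ρ f (c • f) = (Nat.card U : ℂ) * hb ρ f w := by
    rw [hk, hsm, hb_sum, Finset.sum_congr rfl (g := fun _ => hb ρ f w) fun x hx => ?_, Finset.sum_const,
      nsmul_eq_mul, hcardH]
    rw [hb_adj, hfU _ (inv_mem (Finset.mem_filter.1 hx).2)]
  have e2 : hb ρ w w = (Nat.card U' : ℂ) * hb ρ f w := by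
    conv_lhs => rw [hw, hsm]
    rw [hb_sum_left, Finset.sum_congr rfl (g := fun _ => hb ρ f w) fun x hx => ?_, Finset.sum_const,
      nsmul_eq_mul, hcardH]
    have hx' : x ∈ U' := (Finset.mem_filter.1 hx).2
    have h2 : ρ x⁻¹ w = w := Cfsg.Agent.H769.Kaw.smul_sm_of_mem (inv_mem hx') f
    have h3 := hb_adj ρ x⁻¹ f w
    rw [h2, inv_inv] at h3
    rw [← hsm, ← hw]
    exact h3.symm
  rw [hb_smul] at e1
  have p1 := hb_pos ρ hv
  have p2 := hb_nonneg ρ w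
  rw [Complex.pos_iff] at p1
  rw [Complex.nonneg_iff] at p2
  have hcU : (0 : ℝ) < Nat.card U := by exact_mod_cast Nat.card_pos
  have hcU' : (0 : ℝ) < Nat.card U' := by exact_mod_cast Nat.card_pos
  refine ⟨(hb ρ f f).re, (Nat.card U : ℝ) * ((hb ρ w w).re / Nat.card U'), p1.1, ?_, ?_⟩
  · exact mul_nonneg hcU.le (div_nonneg p2.1 hcU'.le)
  · have q1 : hb ρ f f = ((hb ρ f f).re : ℂ) := Complex.ext (by simp) (by rw [← p1.2]; simp)
    have q2 : hb ρ w w = ((hb ρ w w).re : ℂ) := Complex.ext (by simp) (by rw [← p2.2]; simp)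
    have hcU'' : (Nat.card U' : ℂ) ≠ 0 := card_ne U'
    have q3 : hb ρ f w = ((hb ρ w w).re : ℂ) / (Nat.card U' : ℂ) := by
      rw [← q2, e2]
      field_simp
    rw [q1, q3] at e1
    rw [e1]
    push_cast
    rfl

end Cfsg.Agent.H866.OZ
end

-- part: H866/OZ/KawTwo
section
/-!
# S4842: the sum over the `p`-elements in rank two (helper866)
-/

set_option autoImplicit false
set_option linter.unusedSectionVars false
set_option maxHeartbeats 400000

namespace Cfsg.Agent.H866.OZ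

open CoxeterSystem Cfsg.Agent.ChevalleyStructure.CoxeterGeom Cfsg.Agent.Tits.Roots Cfsg.Agent.Tits.Core
  Cfsg.Agent.Tits.Exchange Cfsg.Agent.Nodes.Reps Cfsg.Agent.Nodes.BNOf Cfsg.Agent.Nodes.StabComb
  Cfsg.Agent.Nodes.Bruhat Cfsg.Agent.Nodes.OppDec Cfsg.Agent.Nodes.LeviDec Cfsg.Agent.Nodes.NormalForm
open Cfsg.Agent.H631.Kaw (pel mem_pel)
open LinearMap (trace)

section Gen

variable {I W Y : Type*} [Fintype I] [DecidableEq I] [Group W] [Group Y] [Finite Y] {M : CoxeterMatrix I}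
  {cs : CoxeterSystem M W} {A : I → I → ℤ} {h : IsCartan M A} {p : ℕ} {T : Subgroup Y} {n : I → Y}
  {X : (I → ℤ) → Subgroup Y} {V : Type*} [AddCommGroup V] [Module ℂ V] [FiniteDimensional ℂ V]
  {ρ : Representation ℂ Y V} (R : RGD cs h p T n X)

theorem av_bot : av ρ (⊥ : Subgroup Y) = 1 := by
  apply LinearMap.ext
  intro v
  rw [av_vec]
  · rfl
  · intro g hg
    rw [Subgroup.mem_bot] at hg
    rw [hg, map_one]
    rfl

theorem VJ_top {J : Set I} (hJ : ∀ k, k ∈ J) : VJ cs h X J = ⊥ := by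
  rw [eq_bot_iff]
  refine RGD.Sup_le fun x hx => ?_
  obtain ⟨-, -, k, hk, -⟩ := hx
  exact absurd (hJ k) hk

theorem UJ_top {J : Set I} (hJ : ∀ k, k ∈ J) : UJ cs h X J = RGD.Sup X (RGD.Pos cs h) := by
  apply le_antisymm
  · exact RGD.Sup_le fun x hx => RGD.le_Sup (S := RGD.Pos cs h) ⟨hx.1, hx.2.1⟩
  · exact RGD.Sup_le fun x hx => RGD.le_Sup (S := PosJ cs h J) ⟨hx.1, hx.2, fun k hk => absurd (hJ k) hk⟩

theorem PJ_top (hG : GG cs h T X = ⊤) {J : Set I} (hJ : ∀ k, k ∈ J) : PJ cs h T X J = ⊤ := by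
  rw [eq_top_iff, ← hG]
  refine sup_le (le_trans T_le_LJ LJ_le_PJ) (RGD.Sup_le fun x hx => ?_)
  have h1 : X x ≤ RGD.Sup X (RootsJ cs h J) := RGD.le_Sup (S := RootsJ cs h J) ⟨hx, fun k hk => absurd (hJ k) hk⟩
  exact le_trans h1 (le_trans le_sup_right LJ_le_PJ)

include R

/-- `|U| = |X_i| |V_i|` -/
theorem card_U_single [Finite W] (i : I) : Nat.card (RGD.Sup X (RGD.Pos cs h)) =
    Nat.card (UJ cs h X ({i} : Set I)) * Nat.card (VJ cs h X ({i} : Set I)) :=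
  Cfsg.Agent.Nodes.CardSup.card_mul_of_disjoint (UJ_le_U _) (VJ_le_U _) (fun _ hg => (mem_U_iff R).1 hg) (UJ_inf_VJ R _)

/-- `|P_i| = |L_i| |V_i|` -/
theorem card_PJ_LV [Finite W] (J : Set I) : Nat.card (PJ cs h T X J) =
    Nat.card (LJ cs h T X J) * Nat.card (VJ cs h X J) :=
  Cfsg.Agent.Nodes.CardSup.card_mul_of_disjoint LJ_le_PJ VJ_le_PJ (fun _ hg => (mem_PJ R).1 hg) (LJ_inf_VJ R _)

/-- the order of a minimal parabolic subgroup -/
theorem card_PJ_one [Finite W] (i : I) :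
    Nat.card ↥(PJ cs h T X {i}) = (1 + Nat.card (X (sr i))) * Nat.card ↥(RGD.B cs h T X) := by
  have hP : H35.Poin.APath A {i} (fun _ => i) 1 :=
    ⟨fun _ _ => rfl, fun t ht => absurd ht (by omega), fun s t _ _ => absurd (show False by omega) id,
      fun j hj h1 => absurd (Set.mem_singleton_iff.1 hj).symm (h1 0 (by norm_num)), fun s hs t ht _ => by omega⟩
  have h1 := H35.Poin.card_PJ_path R hP (y := Nat.card (X (sr i))) (fun _ _ => rfl)
  have h2 : ({i} : Set I) \ {j | ∃ t < 1, (fun _ => i) t = j} = ∅ := by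
    ext j
    simp only [Set.mem_sdiff, Set.mem_singleton_iff, Set.mem_ofPred_eq, Set.mem_empty_iff_false, iff_false, not_and,
      not_not]
    rintro rfl
    exact ⟨0, by norm_num, rfl⟩
  rw [h2, H35.Poin.PJ_empty] at h1
  rw [h1]
  congr 1
  simp [Finset.sum_range_succ]

end Gen

section Two

variable {W Y : Type*} [Group W] [Group Y] [Finite Y] {M : CoxeterMatrix (Fin 2)}
  {cs : CoxeterSystem M W} {A : Fin 2 → Fin 2 → ℤ} {h : IsCartan M A} {p : ℕ} {T : Subgroup Y} {n : Fin 2 → Y}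
  {X : (Fin 2 → ℤ) → Subgroup Y} {V : Type*} [AddCommGroup V] [Module ℂ V] [FiniteDimensional ℂ V]
  {ρ : Representation ℂ Y V} (R : RGD cs h p T n X)

include R

/-- **rank two** -/
theorem kaw_two [Finite W] [Fact p.Prime] (hG : GG cs h T X = ⊤) :
    ∑ g ∈ pel Y p, trace ℂ V (ρ g) = (Nat.card (RGD.Sup X (RGD.Pos cs h)) : ℂ) *
      ((Module.finrank ℂ V : ℂ) -
        (Nat.card Y : ℂ) / (Nat.card (PJ cs h T X ({0} : Set (Fin 2))) : ℂ) * trace ℂ V (eV ρ cs h X 0) -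
        (Nat.card Y : ℂ) / (Nat.card (PJ cs h T X ({1} : Set (Fin 2))) : ℂ) * trace ℂ V (eV ρ cs h X 1) +
        (Nat.card Y : ℂ) / (Nat.card (RGD.B cs h T X) : ℂ) * trace ℂ V (eU ρ cs h X)) := by
  have huniv : (Finset.univ : Finset (Finset (Fin 2))) = {∅, {0}, {1}, {0, 1}} := by decide
  have hY : (Nat.card Y : ℂ) ≠ 0 := by exact_mod_cast Nat.card_pos.ne'
  have hs : ∀ i : Fin 2, ((({i} : Finset (Fin 2)) : Set (Fin 2))) = {i} := fun i => Finset.coe_singleton i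
  have hJ : ∀ k, k ∈ ((({0, 1} : Finset (Fin 2)) : Set (Fin 2))) := by
    intro k
    fin_cases k <;> simp
  have hc : ∀ i : Fin 2, (Nat.card (RGD.Sup X (RGD.Pos cs h)) : ℂ) =
      (Nat.card (UJ cs h X ({i} : Set (Fin 2))) : ℂ) * (Nat.card (VJ cs h X ({i} : Set (Fin 2))) : ℂ) := by
    intro i
    exact_mod_cast card_U_single R i
  rw [kaw_sum R hG, huniv, Finset.sum_insert (by decide), Finset.sum_insert (by decide), Finset.sum_insert (by decide),
    Finset.sum_singleton, hs, hs, VJ_empty R, UJ_empty R, VJ_top hJ, UJ_top hJ, PJ_top hG hJ, av_bot,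
    Finset.coe_empty, H35.Poin.PJ_empty]
  have h1 : trace ℂ V (1 : Module.End ℂ V) = (Module.finrank ℂ V : ℂ) := LinearMap.trace_one ℂ V
  have e0 : av ρ (VJ cs h X ({0} : Set (Fin 2))) = eV ρ cs h X 0 := rfl
  have e1 : av ρ (VJ cs h X ({1} : Set (Fin 2))) = eV ρ cs h X 1 := rfl
  have eu : av ρ (RGD.Sup X (RGD.Pos cs h)) = eU ρ cs h X := rfl
  rw [h1, e0, e1, eu, Nat.card_congr (Equiv.refl (↥(⊤ : Subgroup Y))), Subgroup.card_top, Subgroup.card_bot]
  simp only [Finset.card_empty, Finset.card_singleton, pow_zero, pow_one, one_mul]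
  have h2 : ({0, 1} : Finset (Fin 2)).card = 2 := by decide
  rw [h2, div_self hY]
  have hc0 := hc 0
  have hc1 := hc 1
  push_cast
  rw [mul_add, mul_sub, mul_sub]
  conv_rhs => rw [show (Nat.card (RGD.Sup X (RGD.Pos cs h)) : ℂ) *
    ((Nat.card Y : ℂ) / (Nat.card (PJ cs h T X ({0} : Set (Fin 2))) : ℂ) * trace ℂ V (eV ρ cs h X 0)) =
    (Nat.card (UJ cs h X ({0} : Set (Fin 2))) : ℂ) * (Nat.card (VJ cs h X ({0} : Set (Fin 2))) : ℂ) *
    ((Nat.card Y : ℂ) / (Nat.card (PJ cs h T X ({0} : Set (Fin 2))) : ℂ) * trace ℂ V (eV ρ cs h X 0)) by rw [← hc0],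
    show (Nat.card (RGD.Sup X (RGD.Pos cs h)) : ℂ) *
    ((Nat.card Y : ℂ) / (Nat.card (PJ cs h T X ({1} : Set (Fin 2))) : ℂ) * trace ℂ V (eV ρ cs h X 1)) =
    (Nat.card (UJ cs h X ({1} : Set (Fin 2))) : ℂ) * (Nat.card (VJ cs h X ({1} : Set (Fin 2))) : ℂ) *
    ((Nat.card Y : ℂ) / (Nat.card (PJ cs h T X ({1} : Set (Fin 2))) : ℂ) * trace ℂ V (eV ρ cs h X 1)) by rw [← hc1]]
  ring

end Two

end Cfsg.Agent.H866.OZ
end
end
end
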