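import Mathlib
import Cfsg.Agent.H81.DP.BtTD4
import Cfsg.Agent.H866.OZ.KawTwo
import Cfsg.Agent.S0242
import Cfsg.Agent.Nodes.CardSup_m3
import Cfsg.Agent.FastGrp
import Cfsg.Agent.Prune
set_option linter.all false
prune_inst 0x7ffcfff9afbcbfffdfff7e7ffefddffe19d15fffe6dff94b3fe0a3ef3bdf238c2fc5fbaf8de0c0fe0ec3e29410b87853fbffffffea6bfc7ffffd5df45ffbee4ff5f7bd0051d69c340fbc0ff603f0778e7f3fffffffffffffffffffffffffffbeffffffffffff
open scoped Cfsg.Agent.FastGrp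

-- part: H866/OZ/Elts
section
/-!
# S4842: elements of `³D₄(q)` (helper866)
-/

set_option autoImplicit false
set_option linter.unusedSectionVars false
set_option maxHeartbeats 400000

namespace Cfsg.Agent.H866.OZ.D4

open CoxeterSystem Cfsg.Agent.ChevalleyStructure.CoxeterGeom Cfsg.Agent.Tits.Roots Cfsg.Agent.Tits.Core
  Cfsg.Agent.Tits.Exchange Cfsg.Agent.Nodes.Reps Cfsg.Agent.Nodes.BNOf Cfsg.Agent.Nodes.StabComb
  Cfsg.Agent.Nodes.Bruhat Cfsg.Agent.Nodes.OppDec Cfsg.Agent.Nodes.LeviDec Cfsg.Agent.Nodes.RGDTwGen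
  Cfsg.Agent.Nodes.RGDChev Cfsg.Agent.Nodes.RGDFold Cfsg.Agent.Nodes.RGDFoldSL
open Cfsg.Agent.KFacts.RgdOpp Cfsg.Agent.KFacts.RgdAut Cfsg.Agent.KFacts.RgdDiag Cfsg.Agent.KFacts.RgdRigid
  Cfsg.Agent.KFacts.RgdField Cfsg.Agent.KFacts.RgdTau Cfsg.Agent.KFacts.RgdNodes
open Cfsg.Lie Cfsg.Agent.ChevalleyStructure Cfsg.Agent.ChevalleyStructure.Elts
open Cfsg.Agent.ChevalleyStructure.SL2Hom (up lo mem_closure_SL2)
open Cfsg.Agent.KFacts.TwDFour.Out
open Cfsg.Agent.Nodes.RGDTwD4 Cfsg.Agent.Nodes.RGDTwNode.D4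
open Cfsg.Agent.CpAut.RgdFix Cfsg.Agent.CpAut.RgdConj Cfsg.Agent.CpAut.RgdTwStd Cfsg.Agent.CpAut.RgdTwD4
open Cfsg.Agent.H866.D4Wf.Frame
open Cfsg.Agent.KFacts.TwESix.NodeCoord (hS_mul)

variable {K : Type} [Field K] [Fintype K] {q : ℕ} (hK : Fintype.card K = q ^ 3)
  {φ : K →+* K} (hφ : ∀ x, φ x = x ^ q)

/-! ### the torus -/

include hK in
theorem ch_inv {t : ↥(twistedD4 K q)} (ht : t ∈ T K q) (i : Fin 2) : chD hφ hK i t⁻¹ = (chD hφ hK i t)⁻¹ := by
  have h1 := ch_mul hK hφ (inv_mem ht) ht i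
  rw [inv_mul_cancel, ch_one hK hφ] at h1
  exact eq_inv_of_mul_eq_one_left h1.symm

include hK in
theorem eq_one_of_ch {t : ↥(twistedD4 K q)} (ht : t ∈ T K q) (h0 : chD hφ hK 0 t = 1) (h1 : chD hφ hK 1 t = 1) :
    t = 1 := by
  apply eq_one_of_center hK hφ
  intro g
  have h2 := conj_eq_one_of_ch hK hφ ht fun i => by
    fin_cases i
    · exact h0
    · exact h1
  have h3 : MulAut.conj t g = g := by rw [h2]; rfl
  rw [MulAut.conj_apply] at h3
  exact mul_inv_eq_iff_eq_mul.1 h3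

include hK in
theorem eq_of_ch {s t : ↥(twistedD4 K q)} (hs : s ∈ T K q) (ht : t ∈ T K q) (h0 : chD hφ hK 0 s = chD hφ hK 0 t)
    (h1 : chD hφ hK 1 s = chD hφ hK 1 t) : s = t := by
  rw [← mul_inv_eq_one]
  refine eq_one_of_ch hK hφ (mul_mem hs (inv_mem ht)) ?_ ?_
  · rw [ch_mul hK hφ hs (inv_mem ht), ch_inv hK hφ ht, h0, mul_inv_cancel₀ (ch_ne_zero hK hφ ht 0)]
  · rw [ch_mul hK hφ hs (inv_mem ht), ch_inv hK hφ ht, h1, mul_inv_cancel₀ (ch_ne_zero hK hφ ht 1)]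

include hK hφ in
theorem T_comm {s t : ↥(twistedD4 K q)} (hs : s ∈ T K q) (ht : t ∈ T K q) : s * t = t * s := by
  refine eq_of_ch hK hφ (mul_mem hs ht) (mul_mem ht hs) ?_ ?_
  · rw [ch_mul hK hφ hs ht, ch_mul hK hφ ht hs, mul_comm]
  · rw [ch_mul hK hφ hs ht, ch_mul hK hφ ht hs, mul_comm]

include hK in
theorem ch_pow {t : ↥(twistedD4 K q)} (ht : t ∈ T K q) (i : Fin 2) (k : ℕ) :
    chD hφ hK i (t ^ k) = chD hφ hK i t ^ k := by
  induction k with
  | zero => rw [pow_zero, pow_zero, ch_one hK hφ]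
  | succ k ih => rw [pow_succ, pow_succ, ch_mul hK hφ (_root_.pow_mem ht k) ht, ih]

include hK in
theorem exists_ch (hq : IsPrimePow q) {c0 : KD φ 0} {c1 : KD φ 1} (h0 : c0 ≠ 0) (h1 : c1 ≠ 0) :
    ∃ t ∈ T K q, chD hφ hK 0 t = c0 ∧ chD hφ hK 1 t = c1 := by
  classical
  let f : T K q → (KD φ 0)ˣ × (KD φ 1)ˣ := fun t =>
    (Units.mk0 (chD hφ hK 0 t) (ch_ne_zero hK hφ t.2 0), Units.mk0 (chD hφ hK 1 t) (ch_ne_zero hK hφ t.2 1))
  have hf : Function.Injective f := by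
    intro s t e
    have e0 := congrArg (fun x => ((x.1 : (KD φ 0)ˣ) : KD φ 0)) e
    have e1 := congrArg (fun x => ((x.2 : (KD φ 1)ˣ) : KD φ 1)) e
    exact Subtype.ext (eq_of_ch hK hφ s.2 t.2 e0 e1)
  have hcard : Nat.card (T K q) = Nat.card ((KD φ 0)ˣ × (KD φ 1)ˣ) := by
    have := Fintype.ofFinite (KD φ 0)
    have := Fintype.ofFinite (KD φ 1)
    rw [Nat.card_prod, Nat.card_eq_fintype_card (α := (KD φ 0)ˣ), Nat.card_eq_fintype_card (α := (KD φ 1)ˣ),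
      Fintype.card_units, Fintype.card_units, ← Nat.card_eq_fintype_card, ← Nat.card_eq_fintype_card,
      card_KD0 hK hφ hq, card_KD1 hK hφ, card_T hK hφ hq]
    have h2 := hq.two_le
    obtain ⟨a, rfl⟩ : ∃ a, q = a + 1 := ⟨q - 1, by omega⟩
    have e : (a + 1) ^ 3 - 1 = a * ((a + 1) ^ 2 + (a + 1) + 1) := by
      have : (a + 1) ^ 3 = a * ((a + 1) ^ 2 + (a + 1) + 1) + 1 := by ring
      omega
    rw [e, Nat.add_sub_cancel]
    ring
  obtain ⟨t, ht⟩ := ((Nat.bijective_iff_injective_and_card f).2 ⟨hf, hcard⟩).2 (Units.mk0 c0 h0, Units.mk0 c1 h1)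
  refine ⟨t, t.2, ?_, ?_⟩
  · exact congrArg (fun x => ((x.1 : (KD φ 0)ˣ) : KD φ 0)) ht
  · exact congrArg (fun x => ((x.2 : (KD φ 1)ˣ) : KD φ 1)) ht

include hK in
theorem co (i : Fin 2) : Co (T K q) (n hφ) (X φ q) i (PhiD hφ hK i) where
  mem x := mem_X hφ hK i x
  inj _ _ e := (coordD hφ hK i).inj e
  w := PhiD_wS hφ hK i
  tor c hc := PhiD_hS hφ hK i c hc

/-- `n⁻¹ t n t⁻¹` -/
theorem n_t_n_t (i : Fin 2) {t : ↥(twistedD4 K q)} (ht : t ∈ T K q) :
    (n hφ i)⁻¹ * t * n hφ i = PhiD hφ hK i (hS (chD hφ hK i t)⁻¹) * t := by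
  obtain ⟨r, hr⟩ := CharP.exists K
  have : Fact r.Prime := ⟨CharP.char_is_prime K r⟩
  have : Finite CoxeterMatrix.G₂.Group := finiteW cs
  have R := rgd' hK hφ r
  have hT' : (n hφ i)⁻¹ * t * n hφ i ∈ T K q := by
    have h1 := (Subgroup.mem_normalizer_iff.1 (inv_mem (R.nsys.norm i)) t).1 ht
    rwa [inv_inv] at h1
  obtain ⟨s, hs⟩ : ∃ s, s = (n hφ i)⁻¹ * t * n hφ i * t⁻¹ := ⟨_, rfl⟩
  have hsT : s ∈ T K q := by rw [hs]; exact mul_mem hT' (inv_mem ht)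
  have hnr : n hφ i ∈ (PhiD hφ hK i).range := ⟨wS 1, PhiD_wS hφ hK i⟩
  have hsr : s ∈ (PhiD hφ hK i).range := by
    have h1 : s = (n hφ i)⁻¹ * (t * n hφ i * t⁻¹) := by rw [hs]; group
    rw [h1]
    exact mul_mem (inv_mem hnr) ((Subgroup.mem_normalizer_iff.1 (T_le_normalizer hK hφ i ht) _).1 hnr)
  have hrange : (PhiD hφ hK i).range ≤ X φ q (sr i) ⊔ X φ q (-sr i) := by
    rintro _ ⟨A, rfl⟩
    have h3 : Subgroup.closure (Set.range (up (F := KD φ i)) ∪ Set.range (lo (F := KD φ i))) ≤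
        (X φ q (sr i) ⊔ X φ q (-sr i)).comap (PhiD hφ hK i) := by
      rw [Subgroup.closure_le]
      rintro _ (⟨a, rfl⟩ | ⟨a, rfl⟩)
      · exact Subgroup.mem_sup_left ((mem_X hφ hK i _).2 ⟨a, rfl⟩)
      · exact Subgroup.mem_sup_right ((mem_negX hK hφ i _).2 ⟨a, rfl⟩)
    exact h3 (mem_closure_SL2 A)
  obtain ⟨d, hd, hsd⟩ := Cfsg.Agent.KFacts.TwESix.NodeCoord.coroot_mem R (mem_X hφ hK i) (PhiD_wS hφ hK i)
    (PhiD_hS hφ hK i) hsT (hrange hsr)
  obtain ⟨c, hc⟩ : ∃ c, c = chD hφ hK i t := ⟨_, rfl⟩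
  have hc0 : c ≠ 0 := by rw [hc]; exact ch_ne_zero hK hφ ht i
  obtain ⟨e, he⟩ : ∃ e, t * PhiD hφ hK i (lo (-(1 : KD φ i)⁻¹)) * t⁻¹ = PhiD hφ hK i (lo e) := by
    refine (mem_negX hK hφ i _).1 ?_
    rw [← R.tor _ (isRoot_sr cs isCartan i).neg t ht]
    exact conj_mem_cj.2 ((mem_negX hK hφ i _).2 ⟨_, rfl⟩)
  have h1 : t * n hφ i * t⁻¹ = PhiD hφ hK i (up c * (lo e * up c)) := by
    have h2 := act_up hK hφ ht i 1
    rw [mul_one, ← hc] at h2
    rw [map_mul, map_mul, ← he, ← h2, ← PhiD_wS hφ hK i]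
    show t * PhiD hφ hK i (up 1 * (lo (-(1 : KD φ i)⁻¹) * up 1)) * t⁻¹ = _
    rw [map_mul, map_mul]
    group
  have h2 : t * n hφ i * t⁻¹ = PhiD hφ hK i (wS 1 * hS d) := by
    rw [map_mul, PhiD_wS, ← hsd, hs]
    group
  have h3 : PhiD hφ hK i ((up c * (lo e * up c)) * (wS 1 * hS d)⁻¹) = 1 := by
    rw [map_mul, map_inv, ← h1, ← h2, mul_inv_cancel]
  obtain ⟨h4, h5, h6⟩ := ker_Phi hK hφ i h3
  obtain ⟨B, hB⟩ : ∃ B, B = (up c * (lo e * up c)) * (wS 1 * hS d)⁻¹ := ⟨_, rfl⟩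
  rw [← hB] at h3 h4 h5 h6
  have h7 : up c * (lo e * up c) = B * (wS 1 * hS d) := by rw [hB]; group
  have hu1 : (up c : Matrix.SpecialLinearGroup (Fin 2) (KD φ i)).1 = !![1, c; 0, 1] := rfl
  have hl1 : (lo e : Matrix.SpecialLinearGroup (Fin 2) (KD φ i)).1 = !![1, 0; e, 1] := rfl
  have h8 := congrArg (fun M : Matrix.SpecialLinearGroup (Fin 2) (KD φ i) => M.1 0 0) h7
  have h9 := congrArg (fun M : Matrix.SpecialLinearGroup (Fin 2) (KD φ i) => M.1 0 1) h7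
  simp only [Matrix.SpecialLinearGroup.coe_mul, coe_wS one_ne_zero, coe_hS hd, Matrix.mul_apply, Fin.sum_univ_two,
    h5, hu1, hl1] at h8 h9
  simp only [_root_.Fin.isValue, _root_.Matrix.of_apply, _root_.Matrix.cons_val', _root_.Matrix.cons_val_zero, _root_.Matrix.cons_val_fin_one, _root_.mul_one, _root_.Matrix.cons_val_one, _root_.MulZeroClass.mul_zero, _root_.add_zero, _root_.inv_one, _root_.MulZeroClass.zero_mul, _root_.neg_mul, _root_.one_mul, _root_.mul_neg, _root_.neg_zero, _root_.zero_add] at h8 h9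
  have h8' : 1 + c * e = 0 := h8
  have h10 : B.1 0 0 * B.1 0 0 = 1 := by rw [← pow_two]; exact h6
  have hb0 : B.1 0 0 ≠ 0 := left_ne_zero_of_mul_eq_one h10
  have h14 : c = B.1 0 0 * d⁻¹ := by
    rw [← h9]
    linear_combination (-c) * h8'
  have h15 : d = B.1 0 0 * c⁻¹ := by
    rw [h14, mul_inv, inv_inv, ← mul_assoc, mul_inv_cancel₀ hb0, one_mul]
  -- `B = hS (B 0 0)`
  have h16 : B = hS (B.1 0 0) := by
    apply Subtype.ext
    rw [coe_hS hb0]
    have hdet := B.2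
    rw [Matrix.det_fin_two, h4, h5, mul_zero, sub_zero] at hdet
    have h11 : B.1 1 1 = (B.1 0 0)⁻¹ := eq_inv_of_mul_eq_one_right hdet
    ext a b
    fin_cases a <;> fin_cases b
    · simp
    · simpa only [_root_.Fin.zero_eta, _root_.Fin.isValue, _root_.Fin.mk_one, _root_.Matrix.of_apply, _root_.Matrix.cons_val', _root_.Matrix.cons_val_one, _root_.Matrix.cons_val_fin_one, _root_.Matrix.cons_val_zero, _root_.ZeroMemClass.coe_zero, _root_.ZeroMemClass.coe_eq_zero] using h5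
    · simpa only [_root_.Fin.mk_one, _root_.Fin.isValue, _root_.Fin.zero_eta, _root_.Matrix.of_apply, _root_.Matrix.cons_val', _root_.Matrix.cons_val_zero, _root_.Matrix.cons_val_fin_one, _root_.Matrix.cons_val_one, _root_.ZeroMemClass.coe_zero, _root_.ZeroMemClass.coe_eq_zero] using h4
    · simp only [h11, _root_.Fin.mk_one, _root_.Fin.isValue, _root_.Subfield.coe_inv, _root_.Matrix.of_apply, _root_.Matrix.cons_val', _root_.Matrix.cons_val_one, _root_.Matrix.cons_val_fin_one]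
  have h17 : s = PhiD hφ hK i (hS c⁻¹) := by
    rw [hsd, h15, hS_mul hb0 (inv_ne_zero hc0), map_mul, ← h16, h3, one_mul]
  rw [← hc, ← h17, hs, inv_mul_cancel_right]

/-- every coroot element is a quotient -/
theorem sur (hq : IsPrimePow q) (i : Fin 2) (d : KD φ i) (hd : d ≠ 0) :
    ∃ t ∈ T K q, t * n hφ i = n hφ i * PhiD hφ hK i (hS d) * t := by
  obtain ⟨t, ht, h1⟩ : ∃ t ∈ T K q, chD hφ hK i t = d⁻¹ := by
    have hi : i = 0 ∨ i = 1 := by fin_cases i <;> simp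
    rcases hi with rfl | rfl
    · obtain ⟨t, ht, h1, -⟩ := exists_ch hK hφ hq (inv_ne_zero hd) (one_ne_zero (α := KD φ 1))
      exact ⟨t, ht, h1⟩
    · obtain ⟨t, ht, -, h1⟩ := exists_ch hK hφ hq (one_ne_zero (α := KD φ 0)) (inv_ne_zero hd)
      exact ⟨t, ht, h1⟩
  refine ⟨t, ht, ?_⟩
  have h2 := n_t_n_t hK hφ i ht
  rw [h1, inv_inv] at h2
  rw [mul_assoc, ← h2]
  group


/-! ### elements of order prime to `q - 1` -/

/-- `h ∈ T` of prime order `ℓ`, `ℓ ∤ q - 1`, `ℓ` odd -/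
structure El (hK : Fintype.card K = q ^ 3) {φ : K →+* K} (hφ : ∀ x, φ x = x ^ q) (l : ℕ) (g : ↥(twistedD4 K q)) :
    Prop where
  mem : g ∈ T K q
  pow : g ^ l = 1
  ne : g ≠ 1
  prime : l.Prime
  odd : l ≠ 2
  cop : Nat.Coprime l (q - 1)

/-- existence -/
theorem exists_el (hq : IsPrimePow q) : ∃ (l : ℕ) (g : ↥(twistedD4 K q)), El hK hφ l g ∧ 5 ≤ l ∧ l ∣ q ^ 2 + q + 1 := by
  have h2 := hq.two_le
  obtain ⟨l, hl, hl3, hld⟩ : ∃ l : ℕ, l.Prime ∧ l ≠ 3 ∧ l ∣ q ^ 2 + q + 1 := by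
    by_contra hcon
    push Not at hcon
    have h3 : ∀ {d : ℕ}, d.Prime → d ∣ q ^ 2 + q + 1 → d = 3 := by
      intro d hd hdd
      by_contra h
      exact hcon d hd h hdd
    have h4 := Nat.eq_prime_pow_of_unique_prime_dvd (n := q ^ 2 + q + 1) (by positivity) h3
    obtain ⟨k, hk⟩ : ∃ k, k = (q ^ 2 + q + 1).primeFactorsList.length := ⟨_, rfl⟩
    rw [← hk] at h4
    have h5 : ¬ 9 ∣ q ^ 2 + q + 1 := by
      intro h
      have h6 : (q ^ 2 + q + 1) % 9 = 0 := Nat.mod_eq_zero_of_dvd h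
      have h7 : q % 9 < 9 := Nat.mod_lt _ (by norm_num)
      rw [Nat.add_mod, Nat.add_mod (q ^ 2), Nat.pow_mod] at h6
      interval_cases h8 : q % 9 <;> simp at h6
    have h6 : k < 2 := by
      by_contra h
      apply h5
      rw [h4]
      calc 9 = 3 ^ 2 := by norm_num
        _ ∣ 3 ^ k := pow_dvd_pow 3 (by omega)
    have h7 : 7 ≤ q ^ 2 + q + 1 := by nlinarith only [h2]
    interval_cases k
    · simp at h4; omega
    · simp at h4; omega
  have : Fact l.Prime := ⟨hl⟩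
  have hl2 : l ≠ 2 := by
    rintro rfl
    have h3 : (q ^ 2 + q + 1) % 2 = 0 := Nat.mod_eq_zero_of_dvd hld
    rcases Nat.even_or_odd q with h4 | h4
    · obtain ⟨a, rfl⟩ := h4
      have : (a + a) ^ 2 + (a + a) + 1 = 2 * (2 * a ^ 2 + a) + 1 := by ring
      omega
    · obtain ⟨a, rfl⟩ := h4
      have : (2 * a + 1) ^ 2 + (2 * a + 1) + 1 = 2 * (2 * a ^ 2 + 3 * a + 1) + 1 := by ring
      omega
  have h5 : 5 ≤ l := by
    have h6 := hl.two_le
    by_contra h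
    have h7 : l = 4 := by omega
    rw [h7] at hl
    norm_num at hl
  have hcop : Nat.Coprime l (q - 1) := by
    rw [Nat.Prime.coprime_iff_not_dvd hl]
    intro h
    apply hl3
    have h6 : l ∣ 3 := by
      obtain ⟨a, rfl⟩ : ∃ a, q = a + 1 := ⟨q - 1, by omega⟩
      rw [Nat.add_sub_cancel] at h
      have h7 : (a + 1) ^ 2 + (a + 1) + 1 = a * (a + 3) + 3 := by ring
      rw [h7] at hld
      exact (Nat.dvd_add_right (h.mul_right _)).1 hld
    exact (Nat.prime_dvd_prime_iff_eq hl Nat.prime_three).1 h6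
  have hdvd : l ∣ Nat.card (T K q) := by
    rw [card_T hK hφ hq]
    exact hld.mul_left _
  obtain ⟨g, hg⟩ := exists_prime_orderOf_dvd_card' l hdvd
  refine ⟨l, g, ⟨g.2, ?_, ?_, hl, hl2, hcop⟩, h5, hld⟩
  · have h6 := pow_orderOf_eq_one g
    rw [hg] at h6
    exact congrArg Subtype.val h6
  · intro h6
    have h7 : g = 1 := Subtype.ext h6
    rw [h7, orderOf_one] at hg
    exact hl.one_lt.ne hg

variable {hK hφ}

theorem El.ch0 {l : ℕ} {g : ↥(twistedD4 K q)} (E : El hK hφ l g) (hq : IsPrimePow q) : chD hφ hK 0 g = 1 := by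
  have := Fintype.ofFinite (KD φ 0)
  have h1 : chD hφ hK 0 g ^ l = 1 := by rw [← ch_pow hK hφ E.mem, E.pow, ch_one hK hφ]
  have h2 : chD hφ hK 0 g ^ (q - 1) = 1 := by
    have h3 := FiniteField.pow_card_sub_one_eq_one _ (ch_ne_zero hK hφ E.mem 0)
    rwa [← Nat.card_eq_fintype_card, card_KD0 hK hφ hq] at h3
  have h3 := orderOf_dvd_of_pow_eq_one h1
  have h4 := orderOf_dvd_of_pow_eq_one h2
  have h5 := Nat.dvd_gcd h3 h4
  rw [show Nat.gcd l (q - 1) = 1 from E.cop] at h5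
  exact orderOf_eq_one_iff.1 (Nat.dvd_one.1 h5)

theorem El.ch1 {l : ℕ} {g : ↥(twistedD4 K q)} (E : El hK hφ l g) (hq : IsPrimePow q) : chD hφ hK 1 g ≠ 1 :=
  fun h => E.ne (eq_one_of_ch hK hφ E.mem (E.ch0 hq) h)

/-- powers -/
theorem El.powEl {l : ℕ} {g : ↥(twistedD4 K q)} (E : El hK hφ l g) {k : ℕ} (hk : ¬ l ∣ k) : El hK hφ l (g ^ k) := by
  refine ⟨_root_.pow_mem E.mem k, by rw [← pow_mul, mul_comm, pow_mul, E.pow, one_pow], fun h => ?_, E.prime, E.odd, E.cop⟩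
  have h1 : orderOf g = l := by
    rcases (Nat.dvd_prime E.prime).1 (orderOf_dvd_of_pow_eq_one E.pow) with h2 | h2
    · exact absurd (orderOf_eq_one_iff.1 h2) E.ne
    · exact h2
  exact hk (h1 ▸ orderOf_dvd_of_pow_eq_one h)

/-- conjugates under the normaliser -/
theorem El.conjEl {l : ℕ} {g k : ↥(twistedD4 K q)} (E : El hK hφ l g)
    (hk : k ∈ Subgroup.normalizer (T K q : Set ↥(twistedD4 K q))) : El hK hφ l (k⁻¹ * g * k) := by
  have h0 : k⁻¹ * g * k ∈ T K q := by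
    have h1 := (Subgroup.mem_normalizer_iff.1 (inv_mem hk) g).1 E.mem
    rwa [inv_inv] at h1
  have h1 : ∀ m : ℕ, (k⁻¹ * g * k) ^ m = k⁻¹ * g ^ m * k := by
    intro m
    have := conj_pow (i := m) (a := k⁻¹) (b := g)
    rwa [inv_inv] at this
  refine ⟨h0, by rw [h1, E.pow, mul_one, inv_mul_cancel], fun h => ?_, E.prime, E.odd, E.cop⟩
  apply E.ne
  have h2 : g = k * (k⁻¹ * g * k) * k⁻¹ := by group
  rw [h2, h, mul_one, mul_inv_cancel]

/-- `g` commutes with `n_0` -/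
theorem El.n0 {l : ℕ} {g : ↥(twistedD4 K q)} (E : El hK hφ l g) (hq : IsPrimePow q) :
    (n hφ 0)⁻¹ * g * n hφ 0 = g := by
  have h1 := n_t_n_t hK hφ 0 E.mem
  rw [E.ch0 hq, inv_one, hS_one, map_one, one_mul] at h1
  exact h1

theorem El.comm0 {l : ℕ} {g : ↥(twistedD4 K q)} (E : El hK hφ l g) (hq : IsPrimePow q)
    (B : Matrix.SpecialLinearGroup (Fin 2) (KD φ 0)) : g * PhiD hφ hK 0 B = PhiD hφ hK 0 B * g := by
  have hn : g * n hφ 0 = n hφ 0 * g := by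
    have h1 := E.n0 hq
    rw [mul_assoc, inv_mul_eq_iff_eq_mul] at h1
    exact h1
  have hup : ∀ a, g * PhiD hφ hK 0 (up a) = PhiD hφ hK 0 (up a) * g := by
    intro a
    have h1 := act_up hK hφ E.mem 0 a
    rw [E.ch0 hq, one_mul] at h1
    exact mul_inv_eq_iff_eq_mul.1 h1
  have h3 : Subgroup.closure (Set.range (up (F := KD φ 0)) ∪ Set.range (lo (F := KD φ 0))) ≤
      (Subgroup.centralizer {g}).comap (PhiD hφ hK 0) := by
    rw [Subgroup.closure_le]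
    rintro _ (⟨a, rfl⟩ | ⟨a, rfl⟩)
    · show PhiD hφ hK 0 (up a) ∈ Subgroup.centralizer {g}
      rw [Subgroup.mem_centralizer_singleton_iff]
      exact (hup a).symm
    · show PhiD hφ hK 0 (lo a) ∈ Subgroup.centralizer {g}
      rw [lo_eq, map_mul, map_mul, map_inv, PhiD_wS]
      have h5 : n hφ 0 ∈ Subgroup.centralizer {g} := Subgroup.mem_centralizer_singleton_iff.2 hn.symm
      have h6 : PhiD hφ hK 0 (up (-a)) ∈ Subgroup.centralizer {g} :=
        Subgroup.mem_centralizer_singleton_iff.2 (hup _).symm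
      exact mul_mem (mul_mem (inv_mem h5) h6) h5
  exact (Subgroup.mem_centralizer_singleton_iff.1 (h3 (mem_closure_SL2 B))).symm


/-- `g` is inverted by `n_1` -/
theorem El.n1 {l : ℕ} {g : ↥(twistedD4 K q)} (E : El hK hφ l g) (hq : IsPrimePow q) :
    (n hφ 1)⁻¹ * g * n hφ 1 = g⁻¹ := by
  obtain ⟨r, hr⟩ := CharP.exists K
  have : Fact r.Prime := ⟨CharP.char_is_prime K r⟩
  have R := rgd' hK hφ r
  have hn : n hφ 1 ∈ Subgroup.normalizer (T K q : Set ↥(twistedD4 K q)) := R.nsys.norm 1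
  have E' := E.conjEl hn
  -- the character
  have h1 := n_t_n_t hK hφ 1 E.mem
  obtain ⟨c, hc⟩ : ∃ c, c = chD hφ hK 1 g := ⟨_, rfl⟩
  have hc0 : c ≠ 0 := by rw [hc]; exact ch_ne_zero hK hφ E.mem 1
  have h2 : chD hφ hK 1 ((n hφ 1)⁻¹ * g * n hφ 1) = c⁻¹ := by
    rw [h1, ch_mul hK hφ (PhiD_hS hφ hK 1 _ (inv_ne_zero (ch_ne_zero hK hφ E.mem 1))) E.mem,
      chD_hS hφ hK 1 _ (inv_ne_zero (ch_ne_zero hK hφ E.mem 1)), ← hc, pow_two, mul_assoc,
      inv_mul_cancel₀ hc0, mul_one]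
  refine eq_of_ch hK hφ E'.mem (inv_mem E.mem) ?_ ?_
  · rw [E'.ch0 hq, ch_inv hK hφ E.mem, E.ch0 hq, inv_one]
  · rw [h2, ch_inv hK hφ E.mem, hc]

/-- the normaliser acts on `g` by `± 1` -/
theorem El.norm {l : ℕ} {g : ↥(twistedD4 K q)} (E : El hK hφ l g) (hq : IsPrimePow q) {r : ℕ} [Fact r.Prime]
    [CharP K r] {w : CoxeterMatrix.G₂.Group} {k : ↥(twistedD4 K q)} (hk : Rp cs (rgd' hK hφ r).nsys w k) :
    k⁻¹ * g * k = g ∨ k⁻¹ * g * k = g⁻¹ := by
  obtain ⟨k', hk', hw⟩ := exists_rp_closure (cs := cs) (hN := (rgd' hK hφ r).nsys) w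
  have h1 : k'⁻¹ * k ∈ T K q := hw.unique hk
  have key : k'⁻¹ * g * k' = g ∨ k'⁻¹ * g * k' = g⁻¹ := by
    clear hw h1
    induction hk' using Subgroup.closure_induction with
    | mem x hx =>
      obtain ⟨i, rfl⟩ := hx
      fin_cases i
      · exact Or.inl (E.n0 hq)
      · exact Or.inr (E.n1 hq)
    | one => left; group
    | mul x y _ _ hx hy =>
      have h2 : (x * y)⁻¹ * g * (x * y) = y⁻¹ * (x⁻¹ * g * x) * y := by group
      have h3 : y⁻¹ * g⁻¹ * y = (y⁻¹ * g * y)⁻¹ := by group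
      rw [h2]
      rcases hx with hx | hx
      · rw [hx]
        exact hy
      · rw [hx, h3]
        rcases hy with hy | hy
        · rw [hy]; exact Or.inr rfl
        · rw [hy, inv_inv]; exact Or.inl rfl
    | inv x _ hx =>
      rcases hx with hx | hx
      · left
        conv_lhs => rw [← hx]
        group
      · right
        have h2 : x⁻¹⁻¹ * (x⁻¹ * g * x)⁻¹ * x⁻¹ = g⁻¹ := by group
        rw [hx, inv_inv] at h2
        exact h2
  have h2 : k⁻¹ * g * k = (k'⁻¹ * k)⁻¹ * (k'⁻¹ * g * k') * (k'⁻¹ * k) := by group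
  have h3 : ∀ x ∈ T K q, (k'⁻¹ * k)⁻¹ * x * (k'⁻¹ * k) = x := by
    intro x hx
    rw [mul_assoc, T_comm hK hφ hx h1, inv_mul_cancel_left]
  rw [h2]
  rcases key with h4 | h4
  · rw [h4, h3 g E.mem]
    exact Or.inl rfl
  · rw [h4, h3 _ (inv_mem E.mem)]
    exact Or.inr rfl

/-- conjugate elements of `T` are conjugate under `N` -/
theorem conj_T {r : ℕ} [Fact r.Prime] [CharP K r] {s t x : ↥(twistedD4 K q)} (hs : s ∈ T K q) (ht : t ∈ T K q)
    (hx : x * s * x⁻¹ = t) : ∃ w k, Rp cs (rgd' hK hφ r).nsys w k ∧ k * s * k⁻¹ = t := by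
  have : Finite CoxeterMatrix.G₂.Group := finiteW cs
  have R := rgd' hK hφ r
  obtain ⟨w, hw⟩ := (mem_GG R).1 (show x ∈ GG cs isCartan (T K q) (X φ q) by rw [GG_top hK hφ]; exact Subgroup.mem_top x)
  obtain ⟨u, hu, k, hk, v, hv, e⟩ := Cfsg.Agent.Nodes.NormalForm.exists_normal_form R hw
  refine ⟨w, k, hk, ?_⟩
  have h1 : x * s = t * x := by rw [← hx]; group
  have hNWroot : ∀ y ∈ Cfsg.Agent.Nodes.NormalForm.NW cs isCartan w, IsRoot cs isCartan y := fun y hy => hy.1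
  have hv' : s⁻¹ * v * s ∈ RGD.Sup (X φ q) (Cfsg.Agent.Nodes.NormalForm.NW cs isCartan w) := by
    have h2 := (Subgroup.mem_normalizer_iff.1 (R.T_le_normalizer hNWroot (inv_mem hs)) v).1 hv
    rwa [inv_inv] at h2
  have hu' : t * u * t⁻¹ ∈ RGD.Sup (X φ q) (RGD.Pos cs isCartan) :=
    (Subgroup.mem_normalizer_iff.1 (R.T_le_normalizer_U ht) u).1 hu
  have hk1 : Rp cs R.nsys w (k * s) := hk.mul_mem_right hs
  have hk2 : Rp cs R.nsys w (t * k) := by
    have h2 := (rp_of_mem (cs := cs) (hN := R.nsys) ht).mul hk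
    rwa [one_mul] at h2
  have h3 : u * (k * s) * (s⁻¹ * v * s) = (t * u * t⁻¹) * (t * k) * v := by
    have h4 : u * (k * s) * (s⁻¹ * v * s) = x * s := by rw [e]; group
    have h5 : (t * u * t⁻¹) * (t * k) * v = t * x := by rw [e]; group
    rw [h4, h5, h1]
  obtain ⟨-, h4, -⟩ := Cfsg.Agent.Nodes.NormalForm.normal_form_unique R hu hu' hk1 hk2 hv' hv h3
  rw [h4]
  group


/-! ### fixed points in `V_0` -/

theorem card_SL2 {F : Type} [Field F] [Finite F] : Nat.card (Matrix.SpecialLinearGroup (Fin 2) F) =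
    Nat.card F * (Nat.card F ^ 2 - 1) := by
  have : Fintype F := Fintype.ofFinite F
  have h1 := Cfsg.Agent.S0242.result (F := F) rfl 2 (by norm_num)
  have hq : 2 ≤ Fintype.card F := Fintype.one_lt_card
  rw [Fin.prod_univ_two] at h1
  have h3 : Fintype.card F ^ 2 - Fintype.card F ^ 1 = (Fintype.card F - 1) * Fintype.card F := by
    rw [Nat.sub_mul, one_mul, pow_one, pow_two]
  simp only [Fin.val_zero, Fin.val_one, pow_zero] at h1
  rw [h3] at h1
  have h4 : (Fintype.card F - 1) * Nat.card (Matrix.SpecialLinearGroup (Fin 2) F) =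
      (Fintype.card F - 1) * (Fintype.card F * (Fintype.card F ^ 2 - 1)) := by rw [h1]; ring
  rw [Nat.card_eq_fintype_card (α := F)]
  exact Nat.eq_of_mul_eq_mul_left (by omega) h4

theorem not_dvd_SL (hq : IsPrimePow q) {l : ℕ} (hl : l.Prime) (hl5 : 5 ≤ l) (hd : l ∣ q ^ 2 + q + 1) :
    ¬ l ∣ q * (q ^ 2 - 1) := by
  intro h
  have h2 := hq.two_le
  obtain ⟨a, rfl⟩ : ∃ a, q = a + 1 := ⟨q - 1, by omega⟩
  have e : (a + 1) ^ 2 - 1 = a * (a + 2) := by
    have : (a + 1) ^ 2 = a * (a + 2) + 1 := by ring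
    omega
  rw [e] at h
  rcases (Nat.Prime.dvd_mul hl).1 h with h3 | h3
  · have h4 : (a + 1) ^ 2 + (a + 1) + 1 = (a + 1) * (a + 2) + 1 := by ring
    rw [h4] at hd
    have := (Nat.dvd_add_right (h3.mul_right _)).1 hd
    have := Nat.le_of_dvd one_pos this
    omega
  rcases (Nat.Prime.dvd_mul hl).1 h3 with h3 | h3
  · have h4 : (a + 1) ^ 2 + (a + 1) + 1 = a * (a + 3) + 3 := by ring
    rw [h4] at hd
    have := (Nat.dvd_add_right (h3.mul_right _)).1 hd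
    have := Nat.le_of_dvd (by norm_num) this
    omega
  · have h4 : (a + 1) ^ 2 + (a + 1) + 1 = (a + 2) * (a + 1) + 1 := by ring
    rw [h4] at hd
    have := (Nat.dvd_add_right (h3.mul_right _)).1 hd
    have := Nat.le_of_dvd one_pos this
    omega

theorem n_conj' (hK : Fintype.card K = q ^ 3) (hφ : ∀ x, φ x = x ^ q) (i : Fin 2) {x : Fin 2 → ℤ} (hx : x ∈ rts)
    {a : ↥(twistedD4 K q)} (ha : a ∈ X φ q x) :
    (n hφ i)⁻¹ * a * n hφ i ∈ X φ q (_root_.Cfsg.Agent.ChevalleyStructure.CoxeterGeom.rep cs isCartan (cs.simple i) x) := by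
  obtain ⟨r, hr⟩ := CharP.exists K
  have : Fact r.Prime := ⟨CharP.char_is_prime K r⟩
  have R := rgd' hK hφ r
  have h1 := R.conj_mem' (rp_simple cs R.nsys i) (isRoot_of_mem hx) ha
  rwa [cs.inv_simple] at h1

theorem El.X01 {l : ℕ} {g : ↥(twistedD4 K q)} (E : El hK hφ l g) (hq : IsPrimePow q) {a : ↥(twistedD4 K q)}
    (ha : a ∈ X φ q ![0, 1]) (h : g * a = a * g) : a = 1 := by
  rw [← sr1_eq] at ha
  obtain ⟨s, rfl⟩ := (mem_X hφ hK 1 a).1 ha
  have h1 := act_up hK hφ E.mem 1 s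
  rw [h, mul_inv_cancel_right] at h1
  have h2 : s = chD hφ hK 1 g * s := (coordD hφ hK 1).inj h1
  have h3 : (chD hφ hK 1 g - 1) * s = 0 := by rw [sub_mul, one_mul, ← h2, sub_self]
  rcases mul_eq_zero.1 h3 with h4 | h4
  · exact absurd (sub_eq_zero.1 h4) (E.ch1 hq)
  · rw [h4, up_zero, map_one]

theorem El.X11 {l : ℕ} {g : ↥(twistedD4 K q)} (E : El hK hφ l g) (hq : IsPrimePow q) {a : ↥(twistedD4 K q)}
    (ha : a ∈ X φ q ![1, 1]) (h : g * a = a * g) : a = 1 := by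
  have h1 := n_conj' hK hφ 0 (x := ![1, 1]) (by decide) ha
  rw [rep0] at h1
  have h2 := E.X01 hq (a := (n hφ 0)⁻¹ * a * n hφ 0) h1 (by
    conv_lhs => rw [← E.n0 hq]
    conv_rhs => rw [← E.n0 hq]
    calc (n hφ 0)⁻¹ * g * n hφ 0 * ((n hφ 0)⁻¹ * a * n hφ 0) = (n hφ 0)⁻¹ * (g * a) * n hφ 0 := by group
      _ = _ := by rw [h]; group)
  have h3 : a = n hφ 0 * ((n hφ 0)⁻¹ * a * n hφ 0) * (n hφ 0)⁻¹ := by group
  rw [h3, h2, mul_one, mul_inv_cancel]

theorem El.X12 {l : ℕ} {g : ↥(twistedD4 K q)} (E : El hK hφ l g) (hq : IsPrimePow q) {a : ↥(twistedD4 K q)}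
    (ha : a ∈ X φ q ![1, 2]) (h : g * a = a * g) : a = 1 := by
  have h1 := n_conj' hK hφ 1 (x := ![1, 2]) (by decide) ha
  rw [rep1] at h1
  have h5 : g⁻¹ * ((n hφ 1)⁻¹ * a * n hφ 1) = ((n hφ 1)⁻¹ * a * n hφ 1) * g⁻¹ := by
    conv_lhs => rw [← E.n1 hq]
    conv_rhs => rw [← E.n1 hq]
    calc (n hφ 1)⁻¹ * g * n hφ 1 * ((n hφ 1)⁻¹ * a * n hφ 1) = (n hφ 1)⁻¹ * (g * a) * n hφ 1 := by group
      _ = _ := by rw [h]; group
  have h2 := E.X11 hq (a := (n hφ 1)⁻¹ * a * n hφ 1) h1 (by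
    have h6 := congrArg (fun x => g * x * g) h5
    simp only [mul_assoc, inv_mul_cancel, mul_one, mul_inv_cancel_left] at h6 ⊢
    rw [h6])
  have h3 : a = n hφ 1 * ((n hφ 1)⁻¹ * a * n hφ 1) * (n hφ 1)⁻¹ := by group
  rw [h3, h2, mul_one, mul_inv_cancel]

/-- the centraliser of `g` in `V_0` -/
theorem El.centr {l : ℕ} {g : ↥(twistedD4 K q)} (E : El hK hφ l g) (hq : IsPrimePow q) {v : ↥(twistedD4 K q)}
    (hv : v ∈ VJ cs isCartan (X φ q) {0}) (h : g * v = v * g) :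
    ∃ a ∈ X φ q ![1, 3], ∃ b ∈ X φ q ![2, 3], v = a * b := by
  obtain ⟨r, hr⟩ := CharP.exists K
  have : Fact r.Prime := ⟨CharP.char_is_prime K r⟩
  have : Finite CoxeterMatrix.G₂.Group := finiteW cs
  have R := rgd' hK hφ r
  have h1 : VJ cs isCartan (X φ q) {0} ≤ RGD.Sup (X φ q) (PW cs isCartan (cs.simple 0)) := by
    refine RGD.Sup_le fun x hx => RGD.le_Sup (S := PW cs isCartan (cs.simple 0)) ⟨hx.1, hx.2.1, ?_⟩
    refine hx.1.simple_nonneg hx.2.1 0 ?_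
    rintro rfl
    obtain ⟨-, -, k, hk, hk'⟩ := hx
    rw [sr_ne fun h => hk (Set.mem_singleton_iff.2 h)] at hk'
    exact lt_irrefl _ hk'
  have h2 := Cfsg.Agent.Nodes.NormalForm.centralizer_PW R (cs.simple 0) (S := {g})
    (Set.singleton_subset_iff.2 E.mem) (h1 hv) (Subgroup.mem_centralizer_singleton_iff.2 h.symm)
  have h3 : RGD.Sup (fun x => X φ q x ⊓ Subgroup.centralizer {g}) (PW cs isCartan (cs.simple 0)) ≤
      X φ q ![1, 3] ⊔ X φ q ![2, 3] := by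
    refine RGD.Sup_le (X := fun x => X φ q x ⊓ Subgroup.centralizer {g}) fun x hx => ?_
    rintro a ⟨ha, ha'⟩
    have hcomm : g * a = a * g := (Subgroup.mem_centralizer_singleton_iff.1 ha').symm
    have hmem := root_mem hx.1
    have hx0 : 0 ≤ x 0 := hx.2.1 0
    have hx1 : 0 ≤ x 1 := hx.2.1 1
    have hx2 := hx.2.2
    simp only [rts, List.mem_cons, List.not_mem_nil, or_false] at hmem
    rcases hmem with rfl | rfl | rfl | rfl | rfl | rfl | rfl | rfl | rfl | rfl | rfl | rfl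
    · exfalso
      rw [rep0] at hx2
      have := hx2 0
      simp at this
    · rw [E.X01 hq ha hcomm]; exact one_mem _
    · rw [E.X11 hq ha hcomm]; exact one_mem _
    · rw [E.X12 hq ha hcomm]; exact one_mem _
    · exact Subgroup.mem_sup_left ha
    · exact Subgroup.mem_sup_right ha
    all_goals (exfalso; simp at hx0 hx1)
  have h4 : v ∈ ((X φ q ![1, 3] ⊔ X φ q ![2, 3] : Subgroup ↥(twistedD4 K q)) : Set ↥(twistedD4 K q)) := h3 h2
  rw [Subgroup.coe_mul_of_left_le_normalizer_right, Set.mem_mul] at h4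
  · obtain ⟨a, ha, b, hb, e⟩ := h4
    exact ⟨a, ha, b, hb, e.symm⟩
  · intro a ha
    rw [Subgroup.mem_normalizer_iff]
    intro b
    constructor
    · intro hb
      rw [comm_del_the hK hφ ha hb, mul_inv_cancel_right]
      exact hb
    · intro hb
      have h5 : b = a⁻¹ * (a * b * a⁻¹) * a := by group
      rw [comm_del_the hK hφ (inv_mem ha) hb, inv_mul_cancel_right] at h5
      rw [h5]
      exact hb

end Cfsg.Agent.H866.OZ.D4
end

-- part: H866/OZ/Elts2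
section
/-!
# S4842: elements of `³D₄(q)`, part two (helper866)
-/

set_option autoImplicit false
set_option linter.unusedSectionVars false
set_option maxHeartbeats 400000

namespace Cfsg.Agent.H866.OZ.D4

open CoxeterSystem Cfsg.Agent.ChevalleyStructure.CoxeterGeom Cfsg.Agent.Tits.Roots Cfsg.Agent.Tits.Core
  Cfsg.Agent.Tits.Exchange Cfsg.Agent.Nodes.Reps Cfsg.Agent.Nodes.BNOf Cfsg.Agent.Nodes.StabComb
  Cfsg.Agent.Nodes.Bruhat Cfsg.Agent.Nodes.OppDec Cfsg.Agent.Nodes.LeviDec Cfsg.Agent.Nodes.RGDTwGen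
  Cfsg.Agent.Nodes.RGDChev Cfsg.Agent.Nodes.RGDFold Cfsg.Agent.Nodes.RGDFoldSL
open Cfsg.Agent.KFacts.RgdOpp Cfsg.Agent.KFacts.RgdAut Cfsg.Agent.KFacts.RgdDiag Cfsg.Agent.KFacts.RgdRigid
  Cfsg.Agent.KFacts.RgdField Cfsg.Agent.KFacts.RgdTau Cfsg.Agent.KFacts.RgdNodes
open Cfsg.Lie Cfsg.Agent.ChevalleyStructure Cfsg.Agent.ChevalleyStructure.Elts
open Cfsg.Agent.ChevalleyStructure.SL2Hom (up lo mem_closure_SL2)
open Cfsg.Agent.KFacts.TwDFour.Out
open Cfsg.Agent.Nodes.RGDTwD4 Cfsg.Agent.Nodes.RGDTwNode.D4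
open Cfsg.Agent.CpAut.RgdFix Cfsg.Agent.CpAut.RgdConj Cfsg.Agent.CpAut.RgdTwStd Cfsg.Agent.CpAut.RgdTwD4
open Cfsg.Agent.H866.D4Wf.Frame
open Cfsg.Agent.KFacts.TwESix.NodeCoord (hS_mul)

variable {K : Type} [Field K] [Fintype K] {q : ℕ} (hK : Fintype.card K = q ^ 3)
  {φ : K →+* K} (hφ : ∀ x, φ x = x ^ q)

/-! ### conjugation into `X_(1,3)` -/

include hK hφ in
theorem card_X23 (hq : IsPrimePow q) : Nat.card (X φ q ![2, 3]) = q := by
  obtain ⟨r, hr⟩ := CharP.exists K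
  have : Fact r.Prime := ⟨CharP.char_is_prime K r⟩
  have : Finite CoxeterMatrix.G₂.Group := finiteW cs
  have R := rgd' hK hφ r
  have h1 := Cfsg.Agent.Nodes.CardSup.card_X_rep R (cs.simple 1) (isRoot_sr cs isCartan 0)
  rw [sr0_eq, rep1] at h1
  have h2 := Cfsg.Agent.Nodes.CardSup.card_X_rep R (cs.simple 0) (isRoot_of_mem (z := ![1, 3]) (by decide))
  rw [rep0] at h2
  have h3 : (![1, 3 * 1 - 0] : Fin 2 → ℤ) = ![1, 3] := by decide
  have h4 : (![3 - 1, 3] : Fin 2 → ℤ) = ![2, 3] := by decide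
  rw [h3] at h1
  rw [h4] at h2
  rw [h2, h1, ← sr0_eq, card_X0 hK hφ hq]

include hK in
/-- the conjugate by `n_0` of an element of `X_(1,3)` -/
theorem n0_del {a : ↥(twistedD4 K q)} (ha : a ∈ X φ q ![1, 3]) : n hφ 0 * a * (n hφ 0)⁻¹ ∈ X φ q ![2, 3] := by
  have h1 := n_conj hK hφ 0 (x := ![1, 3]) (by decide) ha
  rwa [rep0, show (![3 - 1, 3] : Fin 2 → ℤ) = ![2, 3] by decide] at h1

include hK in
/-- kill an element of `X_(1,3)` -/
theorem del_kill {a : ↥(twistedD4 K q)} (ha : a ∈ X φ q ![1, 3]) {B : Matrix.SpecialLinearGroup (Fin 2) (KD φ 0)}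
    (hB : (wS 1 * B * (wS 1)⁻¹).1 1 0 ≠ 0) (h : PhiD hφ hK 0 B * a = a * PhiD hφ hK 0 B) : a = 1 := by
  have h1 : n hφ 0 * a * (n hφ 0)⁻¹ = 1 := by
    refine bruhat hK hφ (i := 0) (y := ![2, 3]) (by decide) (fun x hx b hb => ?_) ?_ hB (n0_del hK hφ ha)
      (n0_del hK hφ ha) ?_
    · rw [sr0_eq] at hx
      exact comm_sr0_the hK hφ hx hb
    · rw [rep0]; decide
    · rw [map_mul, map_mul, map_inv, PhiD_wS]
      calc _ = n hφ 0 * (PhiD hφ hK 0 B * a) * (PhiD hφ hK 0 B)⁻¹ * (n hφ 0)⁻¹ := by group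
        _ = _ := by rw [h]; group
  have h2 : a = (n hφ 0)⁻¹ * (n hφ 0 * a * (n hφ 0)⁻¹) * n hφ 0 := by group
  rw [h2, h1, mul_one, inv_mul_cancel]

include hK in
theorem the_kill {b : ↥(twistedD4 K q)} (hb : b ∈ X φ q ![2, 3]) {B : Matrix.SpecialLinearGroup (Fin 2) (KD φ 0)}
    (hB : B.1 1 0 ≠ 0) (h : PhiD hφ hK 0 B * b = b * PhiD hφ hK 0 B) : b = 1 := by
  refine bruhat hK hφ (i := 0) (y := ![2, 3]) (by decide) (fun x hx b hb => ?_) ?_ hB hb hb ?_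
  · rw [sr0_eq] at hx
    exact comm_sr0_the hK hφ hx hb
  · rw [rep0]; decide
  · rw [h, mul_inv_cancel_right]

include hK in
/-- **(E7b)** -/
theorem exists_conj_del (hq : IsPrimePow q) {a b : ↥(twistedD4 K q)} (ha : a ∈ X φ q ![1, 3])
    (hb : b ∈ X φ q ![2, 3]) (ha1 : a ≠ 1) :
    ∃ s : KD φ 0, PhiD hφ hK 0 (up s) * (a * b) * (PhiD hφ hK 0 (up s))⁻¹ = a := by
  classical
  have := Fintype.ofFinite (KD φ 0)
  have hup : ∀ s, PhiD hφ hK 0 (up s) ∈ X φ q ![1, 0] := fun s => by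
    rw [← sr0_eq]
    exact (mem_X hφ hK 0 _).2 ⟨s, rfl⟩
  let f : KD φ 0 → X φ q ![2, 3] := fun s =>
    ⟨PhiD hφ hK 0 (up s) * a * (PhiD hφ hK 0 (up s))⁻¹ * a⁻¹, comm_sr0_del hK hφ (hup s) ha⟩
  have hf : Function.Injective f := by
    intro s s' e
    by_contra hne
    apply ha1
    have e1 := congrArg Subtype.val e
    have e2 : PhiD hφ hK 0 (up s) * a * (PhiD hφ hK 0 (up s))⁻¹ = PhiD hφ hK 0 (up s') * a * (PhiD hφ hK 0 (up s'))⁻¹ :=
      mul_right_cancel e1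
    refine del_kill hK hφ ha (B := (up s')⁻¹ * up s) ?_ ?_
    · have h1 : (wS 1 * ((up s')⁻¹ * up s) * (wS 1)⁻¹ : Matrix.SpecialLinearGroup (Fin 2) (KD φ 0)).1 1 0 = s' - s := by
        have hu : ∀ s : KD φ 0, (up s : Matrix.SpecialLinearGroup (Fin 2) (KD φ 0)).1 = !![1, s; 0, 1] := fun s => rfl
        have e3 : (up s')⁻¹ * up s = up (s - s') := by
          apply Subtype.ext
          rw [Matrix.SpecialLinearGroup.coe_mul, Matrix.SpecialLinearGroup.coe_inv, hu, hu, hu, Matrix.adjugate_fin_two]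
          ext i j
          (revert i j; simp only [Matrix.mul_apply, Fin.sum_univ_two, _root_.Fin.forall_fin_succ, Fin.isValue, _root_.Matrix.of_apply, _root_.Matrix.cons_val', _root_.Matrix.cons_val_one, _root_.Matrix.cons_val_fin_one, _root_.Matrix.cons_val_zero, _root_.neg_zero, _root_.Subfield.coe_add, _root_.Subfield.coe_mul, _root_.OneMemClass.coe_one, _root_.mul_one, _root_.ZeroMemClass.coe_zero, _root_.MulZeroClass.mul_zero, _root_.add_zero, _root_.Matrix.cons_val_succ, _root_.forall_const, _root_.one_mul, _root_.NegMemClass.coe_neg, _root_.AddSubgroupClass.coe_sub, _root_.MulZeroClass.zero_mul, _root_.zero_add, _root_.implies_true, _root_.and_true, _root_.true_and]) <;> (repeat' with_reducible apply And.intro)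
          ring
        rw [e3, Matrix.SpecialLinearGroup.coe_mul, Matrix.SpecialLinearGroup.coe_mul, Matrix.SpecialLinearGroup.coe_inv,
          coe_wS one_ne_zero, hu, Matrix.adjugate_fin_two]
        simp [Matrix.mul_apply, Fin.sum_univ_two]
      rw [h1]
      exact sub_ne_zero.2 fun h => hne h.symm
    · rw [map_mul, map_inv]
      calc _ = (PhiD hφ hK 0 (up s'))⁻¹ * (PhiD hφ hK 0 (up s) * a * (PhiD hφ hK 0 (up s))⁻¹) *
            PhiD hφ hK 0 (up s) := by group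
        _ = _ := by rw [e2]; group
  have hcard : Nat.card (KD φ 0) = Nat.card (X φ q ![2, 3]) := by rw [card_KD0 hK hφ hq, card_X23 hK hφ hq]
  obtain ⟨s, hs⟩ := ((Nat.bijective_iff_injective_and_card f).2 ⟨hf, hcard⟩).2 ⟨b⁻¹, inv_mem hb⟩
  have hs' : PhiD hφ hK 0 (up s) * a * (PhiD hφ hK 0 (up s))⁻¹ * a⁻¹ = b⁻¹ := congrArg Subtype.val hs
  refine ⟨s, ?_⟩
  have h1 : PhiD hφ hK 0 (up s) * a * (PhiD hφ hK 0 (up s))⁻¹ = b⁻¹ * a := by
    rw [← hs', inv_mul_cancel_right]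
  have h2 : PhiD hφ hK 0 (up s) * b * (PhiD hφ hK 0 (up s))⁻¹ = b := by
    rw [comm_sr0_the hK hφ (hup s) hb, mul_inv_cancel_right]
  calc _ = (PhiD hφ hK 0 (up s) * a * (PhiD hφ hK 0 (up s))⁻¹) * (PhiD hφ hK 0 (up s) * b * (PhiD hφ hK 0 (up s))⁻¹) := by
        group
    _ = b⁻¹ * (a * b) := by rw [h1, h2, mul_assoc]
    _ = a := by rw [comm_del_the hK hφ ha hb, inv_mul_cancel_left]

variable {hK hφ}

/-- **no fixed points in `V_0`** -/
theorem El.free {l : ℕ} {g : ↥(twistedD4 K q)} (E : El hK hφ l g) (hq : IsPrimePow q)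
    (hm : ¬ l ∣ Nat.card (Matrix.SpecialLinearGroup (Fin 2) (KD φ 0)))
    {B : Matrix.SpecialLinearGroup (Fin 2) (KD φ 0)} (hB : Ellip B) {v : ↥(twistedD4 K q)}
    (hv : v ∈ VJ cs isCartan (X φ q) {0}) (h : g * PhiD hφ hK 0 B * v = v * (g * PhiD hφ hK 0 B)) : v = 1 := by
  classical
  have := Fintype.ofFinite (KD φ 0)
  obtain ⟨m, hm'⟩ : ∃ m, m = Nat.card (Matrix.SpecialLinearGroup (Fin 2) (KD φ 0)) := ⟨_, rfl⟩
  rw [← hm'] at hm
  have hcomm := E.comm0 hq B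
  have hBm : B ^ m = 1 := by rw [hm']; exact pow_card_eq_one'
  have h1 : g ^ m * v = v * g ^ m := by
    have h2 : Commute (g * PhiD hφ hK 0 B) v := h
    have h3 := h2.pow_left m
    have h4 : (g * PhiD hφ hK 0 B) ^ m = g ^ m := by
      rw [(show Commute g (PhiD hφ hK 0 B) from hcomm).mul_pow, ← map_pow, hBm, map_one, mul_one]
    rw [h4] at h3
    exact h3
  have h2 : g * v = v * g := by
    have hcop : Nat.Coprime m l := ((Nat.Prime.coprime_iff_not_dvd E.prime).2 hm).symm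
    obtain ⟨k, hk⟩ := exists_pow_eq_self_of_coprime (n := m) (x := g) (by
      have h3 : orderOf g ∣ l := orderOf_dvd_of_pow_eq_one E.pow
      exact Nat.Coprime.coprime_dvd_right h3 hcop)
    have h3 : Commute (g ^ m) v := h1
    have h4 := h3.pow_left k
    rw [hk] at h4
    exact h4
  have h3 : PhiD hφ hK 0 B * v = v * PhiD hφ hK 0 B := by
    have h4 : g * (PhiD hφ hK 0 B * v) = g * (v * PhiD hφ hK 0 B) := by
      rw [← mul_assoc, h, ← mul_assoc, ← mul_assoc, ← h2]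
    exact mul_left_cancel h4
  obtain ⟨a, ha, b, hb, rfl⟩ := E.centr hq hv h2
  have ha1 : a = 1 := by
    by_contra hne
    obtain ⟨s, hs⟩ := exists_conj_del hK hφ hq ha hb hne
    apply hne
    refine del_kill hK hφ ha (B := up s * B * (up s)⁻¹) ?_ ?_
    · have h5 := hB (wS 1 * up s)⁻¹
      have h6 : (wS 1 * up s)⁻¹⁻¹ * B * (wS 1 * up s)⁻¹ = wS 1 * (up s * B * (up s)⁻¹) * (wS 1)⁻¹ := by group
      rwa [h6] at h5
    · rw [map_mul, map_mul, map_inv]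
      conv_lhs => rw [← hs]
      conv_rhs => rw [← hs]
      calc _ = PhiD hφ hK 0 (up s) * (PhiD hφ hK 0 B * (a * b)) * (PhiD hφ hK 0 (up s))⁻¹ := by group
        _ = _ := by rw [h3]; group
  subst ha1
  rw [one_mul] at h3 ⊢
  have h5 := hB 1
  rw [inv_one, one_mul, mul_one] at h5
  exact the_kill hK hφ hb h5 h3

/-! ### the Weyl group -/

/-- `w' = s_1 s_0 s_1 s_0 s_1` -/
noncomputable def w' : CoxeterMatrix.G₂.Group :=
  cs.simple 1 * cs.simple 0 * cs.simple 1 * cs.simple 0 * cs.simple 1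

theorem rep_w' (a b : ℤ) : _root_.Cfsg.Agent.ChevalleyStructure.CoxeterGeom.rep cs isCartan w' ![a, b] = ![a - b, -b] := by
  rw [w', rep_mul_apply, rep_mul_apply, rep_mul_apply, rep_mul_apply, rep1, rep0, rep1, rep0, rep1]
  ext i
  fin_cases i
  · simp; ring
  · simp; ring

theorem not_three (w : CoxeterMatrix.G₂.Group) : ¬ 3 ∣ (_root_.Cfsg.Agent.ChevalleyStructure.CoxeterGeom.rep cs isCartan w (sr 1) : Fin 2 → ℤ) 1 := by
  induction w using cs.simple_induction_left with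
  | one => rw [map_one, sr1_eq]; decide
  | mul_simple_left w i ih =>
    rw [rep_mul_apply]
    obtain ⟨x, hx⟩ : ∃ x : Fin 2 → ℤ, x = _root_.Cfsg.Agent.ChevalleyStructure.CoxeterGeom.rep cs isCartan w (sr 1) := ⟨_, rfl⟩
    rw [← hx] at ih ⊢
    have hx' : x = ![x 0, x 1] := by ext i; fin_cases i <;> rfl
    have hi : i = 0 ∨ i = 1 := by (revert i; simp only [_root_.Fin.forall_fin_succ, Fin.isValue, _root_.zero_ne_one, _root_.or_false, _root_.Fin.succ_ne_zero, _root_.false_or, _root_.Fin.succ_zero_eq_one, _root_.IsEmpty.forall_iff, _root_.and_self])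
    rcases hi with rfl | rfl
    · rw [hx', rep0]
      exact ih
    · rw [hx', rep1]
      intro h
      apply ih
      have h1 : (3 : ℤ) ∣ 3 * x 0 - x 1 := h
      have h2 := (Int.dvd_sub (Dvd.intro _ rfl) h1 : (3 : ℤ) ∣ 3 * x 0 - (3 * x 0 - x 1))
      rwa [sub_sub_cancel] at h2

theorem hij (w : CoxeterMatrix.G₂.Group) :
    _root_.Cfsg.Agent.ChevalleyStructure.CoxeterGeom.rep cs isCartan w⁻¹ (sr 1) ≠ sr 0 ∧ rep cs isCartan w⁻¹ (sr 1) ≠ -sr 0 := by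
  constructor
  · intro h
    apply not_three w⁻¹
    rw [h, sr0_eq]
    decide
  · intro h
    apply not_three w⁻¹
    rw [h, sr0_eq]
    decide

theorem w_cases {w : CoxeterMatrix.G₂.Group} (h : _root_.Cfsg.Agent.ChevalleyStructure.CoxeterGeom.rep cs isCartan w (sr 0) = sr 0) : w = 1 ∨ w' * w = 1 := by
  have hroot : IsRoot cs isCartan (_root_.Cfsg.Agent.ChevalleyStructure.CoxeterGeom.rep cs isCartan w (sr 1)) := ⟨_, _, rfl⟩
  rcases hroot.pos_or_neg with h1 | h1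
  · left
    apply eq_one_of_nonneg cs isCartan
    intro i
    have hi : i = 0 ∨ i = 1 := by (revert i; simp only [_root_.Fin.forall_fin_succ, Fin.isValue, _root_.zero_ne_one, _root_.or_false, _root_.Fin.succ_ne_zero, _root_.false_or, _root_.Fin.succ_zero_eq_one, _root_.IsEmpty.forall_iff, _root_.and_self])
    rcases hi with rfl | rfl
    · show 0 ≤ _root_.Cfsg.Agent.ChevalleyStructure.CoxeterGeom.rep cs isCartan w (sr 0)
      rw [h, sr0_eq]
      intro j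
      fin_cases j <;> simp
    · exact h1
  · right
    apply eq_one_of_nonneg cs isCartan
    intro i
    have hi : i = 0 ∨ i = 1 := by fin_cases i <;> simp
    rcases hi with rfl | rfl
    · show 0 ≤ _root_.Cfsg.Agent.ChevalleyStructure.CoxeterGeom.rep cs isCartan (w' * w) (sr 0)
      rw [rep_mul_apply, h, sr0_eq, rep_w']
      intro j
      (revert j; simp only [_root_.Fin.forall_fin_succ, _root_.Pi.zero_apply, _root_.Nat.succ_eq_add_one, Nat.reduceAdd, _root_.sub_zero, _root_.neg_zero, Fin.isValue, _root_.Matrix.cons_val_zero, _root_.zero_le_one, _root_.Matrix.cons_val_succ, _root_.Matrix.cons_val_fin_one, _root_.Std.le_refl, _root_.implies_true, _root_.and_self])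
    · show 0 ≤ _root_.Cfsg.Agent.ChevalleyStructure.CoxeterGeom.rep cs isCartan (w' * w) (sr 1)
      rw [rep_mul_apply]
      have h3 := not_three w
      have hmem := root_mem hroot
      obtain ⟨x, hx⟩ : ∃ x : Fin 2 → ℤ, x = rep cs isCartan w (sr 1) := ⟨_, rfl⟩
      rw [← hx] at h1 h3 hmem ⊢
      have hx0 : x 0 ≤ 0 := h1 0
      have hx1 : x 1 ≤ 0 := h1 1
      simp only [rts, List.mem_cons, List.not_mem_nil, or_false] at hmem
      rcases hmem with rfl | rfl | rfl | rfl | rfl | rfl | rfl | rfl | rfl | rfl | rfl | rfl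
      all_goals first
        | (exfalso; simp only [_root_.Fin.isValue, _root_.Matrix.cons_val_zero, _root_.Int.reduceLE, _root_.Std.le_refl, _root_.Matrix.cons_val_one, _root_.Matrix.cons_val_fin_one, _root_.Int.reduceNeg, _root_.Left.neg_nonpos_iff, _root_.zero_le_one, _root_.Nat.ofNat_nonneg] at hx0 hx1; done)
        | (exfalso; simp only [_root_.Int.reduceNeg, _root_.Fin.isValue, _root_.Matrix.cons_val_one, _root_.Matrix.cons_val_fin_one, _root_.dvd_zero, _root_.not_true_eq_false, _root_.dvd_neg, _root_.Int.reduceDvd, _root_.not_false_eq_true, _root_.dvd_refl] at h3; done)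
        | (rw [rep_w']; intro j; (revert j; simp only [_root_.Fin.forall_fin_succ, _root_.Pi.zero_apply, _root_.Nat.succ_eq_add_one, Nat.reduceAdd, Int.reduceNeg, _root_.sub_neg_eq_add, _root_.zero_add, _root_.neg_neg, Fin.isValue, _root_.Matrix.cons_val_zero, _root_.zero_le_one, _root_.Matrix.cons_val_succ, _root_.Matrix.cons_val_fin_one, _root_.implies_true, _root_.and_self, _root_.sub_self, _root_.Std.le_refl, Int.reduceAdd, _root_.Nat.ofNat_nonneg]))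

variable (hK hφ)

/-- `n'` -/
noncomputable def n' : ↥(twistedD4 K q) := n hφ 1 * n hφ 0 * n hφ 1 * n hφ 0 * n hφ 1

include hK in
theorem rp_n' (r : ℕ) [Fact r.Prime] [CharP K r] : Rp cs (rgd' hK hφ r).nsys w' (n' hφ) := by
  have R := rgd' hK hφ r
  have h0 := rp_simple cs R.nsys 0
  have h1 := rp_simple cs R.nsys 1
  exact (((h1.mul h0).mul h1).mul h0).mul h1

include hK in
/-- `n'` normalises `L_0` -/
theorem n'_norm {r : ℕ} [Fact r.Prime] [CharP K r] {k : ↥(twistedD4 K q)} {w : CoxeterMatrix.G₂.Group}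
    (hk : Rp cs (rgd' hK hφ r).nsys w k) (hw : _root_.Cfsg.Agent.ChevalleyStructure.CoxeterGeom.rep cs isCartan w⁻¹ (sr 0) = sr 0) {l : ↥(twistedD4 K q)}
    (hl : l ∈ LJ cs isCartan (T K q) (X φ q) {0}) : k⁻¹ * l * k ∈ LJ cs isCartan (T K q) (X φ q) {0} := by
  have : Finite CoxeterMatrix.G₂.Group := finiteW cs
  have R := rgd' hK hφ r
  have h1 : LJ cs isCartan (T K q) (X φ q) {0} ≤
      (LJ cs isCartan (T K q) (X φ q) {0}).comap (MulAut.conj k⁻¹).toMonoidHom := by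
    refine sup_le ?_ (RGD.Sup_le fun x hx => ?_)
    · intro t ht
      rw [Subgroup.mem_comap]
      refine Subgroup.mem_sup_left ?_
      show k⁻¹ * t * k⁻¹⁻¹ ∈ T K q
      exact (Subgroup.mem_normalizer_iff.1 hk.inv.mem_normalizer t).1 ht
    · intro y hy
      rw [Subgroup.mem_comap]
      show k⁻¹ * y * k⁻¹⁻¹ ∈ LJ cs isCartan (T K q) (X φ q) {0}
      rw [inv_inv]
      have h2 := R.conj_mem' hk hx.1 hy
      have h3 : _root_.Cfsg.Agent.ChevalleyStructure.CoxeterGeom.rep cs isCartan w⁻¹ x = x := by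
        rcases Cfsg.Agent.H866.D4Wf.eq_of_mem_RootsJ R hx with h4 | h4
        · rw [h4, hw]
        · rw [h4, map_neg, hw]
      rw [h3] at h2
      have h4 : X φ q x ≤ RGD.Sup (X φ q) (RootsJ cs isCartan {0}) := RGD.le_Sup (S := RootsJ cs isCartan {0}) hx
      exact Subgroup.mem_sup_right (h4 h2)
  have h2 := h1 hl
  rw [Subgroup.mem_comap] at h2
  have h3 : (MulAut.conj k⁻¹).toMonoidHom l = k⁻¹ * l * k := by
    show k⁻¹ * l * k⁻¹⁻¹ = _
    rw [inv_inv]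
  rwa [h3] at h2

theorem rep_w'_sr0 : _root_.Cfsg.Agent.ChevalleyStructure.CoxeterGeom.rep cs isCartan w' (sr 0) = sr 0 := by
  rw [sr0_eq, rep_w']
  ext i
  fin_cases i <;> simp

theorem rep_w'_inv_sr0 : _root_.Cfsg.Agent.ChevalleyStructure.CoxeterGeom.rep cs isCartan w'⁻¹ (sr 0) = sr 0 := by
  have h1 : _root_.Cfsg.Agent.ChevalleyStructure.CoxeterGeom.rep cs isCartan w'⁻¹ (rep cs isCartan w' (sr 0)) = sr 0 := by
    rw [← rep_mul_apply, inv_mul_cancel, map_one]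
    rfl
  rwa [rep_w'_sr0] at h1

include hK in
/-- both conjugates -/
theorem n'_both {l : ↥(twistedD4 K q)} (hl : l ∈ LJ cs isCartan (T K q) (X φ q) {0}) :
    (n' hφ)⁻¹ * l * n' hφ ∈ LJ cs isCartan (T K q) (X φ q) {0} ∧
      n' hφ * l * (n' hφ)⁻¹ ∈ LJ cs isCartan (T K q) (X φ q) {0} := by
  obtain ⟨r, hr⟩ := CharP.exists K
  have : Fact r.Prime := ⟨CharP.char_is_prime K r⟩
  refine ⟨n'_norm hK hφ (rp_n' hK hφ r) rep_w'_inv_sr0 hl, ?_⟩
  have h1 := n'_norm hK hφ (rp_n' hK hφ r).inv (by rw [inv_inv]; exact rep_w'_sr0) hl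
  rwa [inv_inv] at h1

include hK in
/-- the dichotomy -/
theorem dich {r : ℕ} [Fact r.Prime] [CharP K r] {w : CoxeterMatrix.G₂.Group} {k : ↥(twistedD4 K q)}
    (hk : Rp cs (rgd' hK hφ r).nsys w k)
    (hw : _root_.Cfsg.Agent.ChevalleyStructure.CoxeterGeom.rep cs isCartan w⁻¹ (sr 0) = sr 0 ∨ rep cs isCartan w⁻¹ (sr 0) = -sr 0) :
    k ∈ LJ cs isCartan (T K q) (X φ q) {0} ∨ (n' hφ)⁻¹ * k ∈ LJ cs isCartan (T K q) (X φ q) {0} := by
  have : Finite CoxeterMatrix.G₂.Group := finiteW cs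
  have R := rgd' hK hφ r
  have hTL : T K q ≤ LJ cs isCartan (T K q) (X φ q) {0} := le_sup_left
  have key : ∀ {w : CoxeterMatrix.G₂.Group} {k : ↥(twistedD4 K q)}, Rp cs R.nsys w k →
      _root_.Cfsg.Agent.ChevalleyStructure.CoxeterGeom.rep cs isCartan w⁻¹ (sr 0) = sr 0 → k ∈ T K q ∨ (n' hφ)⁻¹ * k ∈ T K q := by
    intro w k hk h1
    rcases w_cases h1 with h2 | h2
    · left
      rw [inv_eq_one] at h2
      rw [h2] at hk
      exact hk.mem_of_one
    · right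
      rw [mul_inv_eq_one] at h2
      rw [← h2] at hk
      exact (rp_n' hK hφ r).unique hk
  rcases hw with h1 | h1
  · rcases key hk h1 with h2 | h2
    · exact Or.inl (hTL h2)
    · exact Or.inr (hTL h2)
  · have hn : n hφ 0 ∈ LJ cs isCartan (T K q) (X φ q) {0} := n_mem_LJ R (Set.mem_singleton 0)
    have h3 := key ((rp_simple cs R.nsys 0).mul hk) (by
      rw [mul_inv_rev, cs.inv_simple, rep_mul_apply, rep_simple_sr, map_neg, h1, neg_neg])
    rcases h3 with h3 | h3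
    · left
      have h4 : k = (n hφ 0)⁻¹ * (n hφ 0 * k) := by group
      rw [h4]
      exact mul_mem (inv_mem hn) (hTL h3)
    · right
      have h4 : (n' hφ)⁻¹ * k = ((n' hφ)⁻¹ * (n hφ 0)⁻¹ * n' hφ) * ((n' hφ)⁻¹ * (n hφ 0 * k)) := by group
      rw [h4]
      exact mul_mem (n'_both hK hφ (inv_mem hn)).1 (hTL h3)

variable {hK hφ}

theorem El.invEl {l : ℕ} {g : ↥(twistedD4 K q)} (E : El hK hφ l g) : El hK hφ l g⁻¹ :=
  ⟨inv_mem E.mem, by rw [inv_pow, E.pow, inv_one], fun h => E.ne (inv_eq_one.1 h), E.prime, E.odd, E.cop⟩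

theorem El.n'_inv {l : ℕ} {g : ↥(twistedD4 K q)} (E : El hK hφ l g) (hq : IsPrimePow q) :
    (n' hφ)⁻¹ * g * n' hφ = g⁻¹ := by
  have h0 := E.n0 hq
  have h1 := E.n1 hq
  have h0' := E.invEl.n0 hq
  have h1' := E.invEl.n1 hq
  rw [inv_inv] at h1'
  calc (n' hφ)⁻¹ * g * n' hφ = (n hφ 1)⁻¹ * ((n hφ 0)⁻¹ * ((n hφ 1)⁻¹ * ((n hφ 0)⁻¹ * ((n hφ 1)⁻¹ * g * n hφ 1) *
        n hφ 0) * n hφ 1) * n hφ 0) * n hφ 1 := by rw [n']; group
    _ = g⁻¹ := by rw [h1, h0', h1', h0, h1]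

variable (hK hφ)

theorem conj_range {k : ↥(twistedD4 K q)} {r : ℕ} [Fact r.Prime] [CharP K r] {w : CoxeterMatrix.G₂.Group}
    (hk : Rp cs (rgd' hK hφ r).nsys w k) (hw : _root_.Cfsg.Agent.ChevalleyStructure.CoxeterGeom.rep cs isCartan w⁻¹ (sr 0) = sr 0)
    (B : Matrix.SpecialLinearGroup (Fin 2) (KD φ 0)) : ∃ B', k⁻¹ * PhiD hφ hK 0 B * k = PhiD hφ hK 0 B' := by
  have R := rgd' hK hφ r
  have h3 : Subgroup.closure (Set.range (up (F := KD φ 0)) ∪ Set.range (lo (F := KD φ 0))) ≤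
      (PhiD hφ hK 0).range.comap ((MulAut.conj k⁻¹).toMonoidHom.comp (PhiD hφ hK 0)) := by
    rw [Subgroup.closure_le]
    rintro _ (⟨a, rfl⟩ | ⟨a, rfl⟩)
    · have h4 := R.conj_mem' hk (isRoot_sr cs isCartan 0) ((mem_X hφ hK 0 _).2 ⟨a, rfl⟩)
      rw [hw] at h4
      obtain ⟨b, hb⟩ := (mem_X hφ hK 0 _).1 h4
      refine ⟨up b, ?_⟩
      rw [← hb]
      show _ = k⁻¹ * PhiD hφ hK 0 (up a) * k⁻¹⁻¹
      rw [inv_inv]
    · have h4 := R.conj_mem' hk (isRoot_sr cs isCartan 0).neg ((mem_negX hK hφ 0 _).2 ⟨a, rfl⟩)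
      rw [map_neg, hw] at h4
      obtain ⟨b, hb⟩ := (mem_negX hK hφ 0 _).1 h4
      refine ⟨lo b, ?_⟩
      rw [← hb]
      show _ = k⁻¹ * PhiD hφ hK 0 (lo a) * k⁻¹⁻¹
      rw [inv_inv]
  obtain ⟨B', hB'⟩ := h3 (mem_closure_SL2 B)
  refine ⟨B', ?_⟩
  rw [hB']
  show _ = k⁻¹ * PhiD hφ hK 0 B * k⁻¹⁻¹
  rw [inv_inv]

theorem eq_hS_up {F : Type*} [Field F] {E : Matrix.SpecialLinearGroup (Fin 2) F} (h : E.1 1 0 = 0) :
    E.1 0 0 ≠ 0 ∧ E = hS (E.1 0 0) * up (E.1 0 1 / E.1 0 0) := by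
  have hdet := E.2
  rw [Matrix.det_fin_two, h, mul_zero, sub_zero] at hdet
  have h0 : E.1 0 0 ≠ 0 := left_ne_zero_of_mul_eq_one hdet
  have h11 : E.1 1 1 = (E.1 0 0)⁻¹ := eq_inv_of_mul_eq_one_right hdet
  refine ⟨h0, Subtype.ext ?_⟩
  have hu : ∀ s : F, (up s : Matrix.SpecialLinearGroup (Fin 2) F).1 = !![1, s; 0, 1] := fun s => rfl
  rw [Matrix.SpecialLinearGroup.coe_mul, coe_hS h0, hu]
  ext i j
  fin_cases i <;> fin_cases j
  · simp [Matrix.mul_apply, Fin.sum_univ_two]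
  · simp [Matrix.mul_apply, Fin.sum_univ_two, mul_div_cancel₀ _ h0]
  · simpa only [Matrix.mul_apply, Fin.sum_univ_two, _root_.Fin.mk_one, _root_.Fin.isValue, _root_.Fin.zero_eta, _root_.Matrix.of_apply, _root_.Matrix.cons_val', _root_.Matrix.cons_val_fin_one, _root_.Matrix.cons_val_one, _root_.Matrix.cons_val_zero, _root_.mul_one, _root_.MulZeroClass.mul_zero, _root_.add_zero] using h
  · simpa only [Matrix.mul_apply, Fin.sum_univ_two, _root_.Fin.mk_one, _root_.Fin.isValue, _root_.Matrix.of_apply, _root_.Matrix.cons_val', _root_.Matrix.cons_val_fin_one, _root_.Matrix.cons_val_one, _root_.Matrix.cons_val_zero, _root_.MulZeroClass.zero_mul, _root_.mul_one, _root_.zero_add] using h11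

/-- ellipticity is preserved by `n'` -/
theorem ellip_conj {k : ↥(twistedD4 K q)} {r : ℕ} [Fact r.Prime] [CharP K r] {w : CoxeterMatrix.G₂.Group}
    (hk : Rp cs (rgd' hK hφ r).nsys w k) (hw : _root_.Cfsg.Agent.ChevalleyStructure.CoxeterGeom.rep cs isCartan w⁻¹ (sr 0) = sr 0)
    {B B' : Matrix.SpecialLinearGroup (Fin 2) (KD φ 0)} (hB : Ellip B)
    (h : k⁻¹ * PhiD hφ hK 0 B * k = PhiD hφ hK 0 B') : Ellip B' := by
  have : Finite CoxeterMatrix.G₂.Group := finiteW cs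
  have R := rgd' hK hφ r
  have hw' : _root_.Cfsg.Agent.ChevalleyStructure.CoxeterGeom.rep cs isCartan w (sr 0) = sr 0 := by
    have h1 : _root_.Cfsg.Agent.ChevalleyStructure.CoxeterGeom.rep cs isCartan w (rep cs isCartan w⁻¹ (sr 0)) = sr 0 := by
      rw [← rep_mul_apply, mul_inv_cancel, map_one]
      rfl
    rwa [hw] at h1
  intro C hC
  obtain ⟨D, hD⟩ := conj_range hK hφ hk.inv (by rw [inv_inv]; exact hw') C
  rw [inv_inv] at hD
  have hE := hB D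
  obtain ⟨F, hF⟩ : ∃ F, F = C⁻¹ * B' * C := ⟨_, rfl⟩
  rw [← hF] at hC
  obtain ⟨h0, e⟩ := eq_hS_up hC
  have hTB : T K q ≤ RGD.B cs isCartan (T K q) (X φ q) := RGD.T_le_B
  have hXB : X φ q (sr 0) ≤ RGD.B cs isCartan (T K q) (X φ q) :=
    le_trans (RGD.le_Sup (S := RGD.Pos cs isCartan) ⟨isRoot_sr cs isCartan 0, sr_nonneg 0⟩) RGD.U_le_B
  have h1 : PhiD hφ hK 0 (D⁻¹ * B * D) = k * PhiD hφ hK 0 F * k⁻¹ := by
    rw [hF, map_mul, map_mul, map_mul, map_mul, map_inv, map_inv, ← hD, ← h]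
    group
  have h2 : PhiD hφ hK 0 (D⁻¹ * B * D) ∈ RGD.B cs isCartan (T K q) (X φ q) := by
    have h3 : k * PhiD hφ hK 0 F * k⁻¹ = (k * PhiD hφ hK 0 (hS (F.1 0 0)) * k⁻¹) *
          (k * PhiD hφ hK 0 (up (F.1 0 1 / F.1 0 0)) * k⁻¹) := by
      have h4 : PhiD hφ hK 0 F = PhiD hφ hK 0 (hS (F.1 0 0)) * PhiD hφ hK 0 (up (F.1 0 1 / F.1 0 0)) := by
        rw [← map_mul, ← e]
      rw [h4]
      group
    rw [h1, h3]
    refine mul_mem (hTB ?_) (hXB ?_)
    · exact (Subgroup.mem_normalizer_iff.1 hk.mem_normalizer _).1 (PhiD_hS hφ hK 0 _ h0)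
    · have h5 : PhiD hφ hK 0 (up (F.1 0 1 / F.1 0 0)) ∈ X φ q (sr 0) := (mem_X hφ hK 0 _).2 ⟨_, rfl⟩
      have h4 := R.conj_mem hk (isRoot_sr cs isCartan 0) h5
      rw [hw'] at h4
      exact h4
  have e2 := Cfsg.Agent.KFacts.TwESix.NodeCoord.eq_of_ne_zero hE
  obtain ⟨A, hA⟩ : ∃ A, A = D⁻¹ * B * D := ⟨_, rfl⟩
  rw [← hA] at h2 e2 hE
  have hc : -(A.1 1 0)⁻¹ ≠ 0 := neg_ne_zero.2 (inv_ne_zero hE)
  have hT := PhiD_hS hφ hK 0 _ hc
  have hup : ∀ a, PhiD hφ hK 0 (up a) ∈ X φ q (sr 0) := fun a => (mem_X hφ hK 0 _).2 ⟨a, rfl⟩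
  have h5 : n hφ 0 = (PhiD hφ hK 0 (hS (-(A.1 1 0)⁻¹)))⁻¹ * (PhiD hφ hK 0 (up (A.1 0 0 / A.1 1 0)))⁻¹ *
      PhiD hφ hK 0 A * (PhiD hφ hK 0 (up (A.1 1 1 / A.1 1 0)))⁻¹ := by
    have h6 : PhiD hφ hK 0 A = PhiD hφ hK 0 (up (A.1 0 0 / A.1 1 0)) * (PhiD hφ hK 0 (hS (-(A.1 1 0)⁻¹)) * n hφ 0) *
        PhiD hφ hK 0 (up (A.1 1 1 / A.1 1 0)) := by
      rw [← PhiD_wS hφ hK, ← map_mul, ← map_mul, ← map_mul, ← e2]
    rw [h6]
    group
  have h7 : n hφ 0 ∈ RGD.B cs isCartan (T K q) (X φ q) := by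
    rw [h5]
    exact mul_mem (mul_mem (mul_mem (inv_mem (hTB hT)) (inv_mem (hXB (hup _)))) h2) (inv_mem (hXB (hup _)))
  have h8 := RGD.eq_one_of_mem_B R (rp_simple cs R.nsys 0) h7
  have h9 := cs.length_simple 0
  rw [h8, cs.length_one] at h9
  exact zero_ne_one h9

/-! ### elliptic elements exist -/

theorem exists_ellip {F : Type*} [Field F] [Finite F] : ∃ B : Matrix.SpecialLinearGroup (Fin 2) F, Ellip B := by
  classical
  have := Fintype.ofFinite F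
  obtain ⟨τ, hτ⟩ : ∃ τ : F, ∀ x : F, x ≠ 0 → x + x⁻¹ ≠ τ := by
    by_contra hcon
    push Not at hcon
    have hs : Function.Surjective (fun x : Fˣ => (x : F) + (x : F)⁻¹) := by
      intro τ
      obtain ⟨x, hx, e⟩ := hcon τ
      exact ⟨Units.mk0 x hx, e⟩
    have h1 := Fintype.card_le_of_surjective _ hs
    rw [Fintype.card_units] at h1
    have h2 : 0 < Fintype.card F := Fintype.card_pos
    omega
  obtain ⟨B, hB⟩ : ∃ B : Matrix.SpecialLinearGroup (Fin 2) F, B.1 = !![0, -1; 1, τ] :=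
    ⟨⟨!![0, -1; 1, τ], by rw [Matrix.det_fin_two_of]; ring⟩, rfl⟩
  refine ⟨B, fun C hC => ?_⟩
  have hdet := C.2
  rw [Matrix.det_fin_two] at hdet
  have h1 : (C⁻¹ * B * C : Matrix.SpecialLinearGroup (Fin 2) F).1 1 0 =
      C.1 0 0 * C.1 0 0 + τ * C.1 0 0 * C.1 1 0 + C.1 1 0 * C.1 1 0 := by
    rw [Matrix.SpecialLinearGroup.coe_mul, Matrix.SpecialLinearGroup.coe_mul, Matrix.SpecialLinearGroup.coe_inv,
      Matrix.adjugate_fin_two, hB]
    simp only [Matrix.mul_apply, Fin.sum_univ_two, _root_.Fin.isValue, _root_.Matrix.cons_mul, _root_.Nat.succ_eq_add_one, _root_.Nat.reduceAdd, _root_.Matrix.vecMul_cons, _root_.Matrix.head_cons, _root_.Matrix.smul_cons, _root_.smul_eq_mul, _root_.MulZeroClass.mul_zero, _root_.mul_neg, _root_.mul_one, _root_.Matrix.smul_empty, _root_.Matrix.tail_cons, _root_.neg_smul, _root_.Matrix.neg_cons, _root_.Matrix.neg_empty, _root_.Matrix.empty_vecMul, _root_.add_zero, _root_.Matrix.add_cons,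 _root_.zero_add, _root_.Matrix.empty_add_empty, _root_.neg_zero, _root_.neg_neg, _root_.Matrix.empty_mul, _root_.Equiv.symm_apply_apply, _root_.Matrix.of_apply, _root_.Matrix.cons_val', _root_.Matrix.cons_val_fin_one, _root_.Matrix.cons_val_one, _root_.Matrix.cons_val_zero]
    ring
  rw [h1] at hC
  by_cases h0 : C.1 0 0 = 0
  · rw [h0] at hC hdet
    have h2 : C.1 1 0 * C.1 1 0 = 0 := by linear_combination hC
    have h3 : C.1 1 0 = 0 := mul_self_eq_zero.1 h2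
    rw [h3] at hdet
    simp at hdet
  · have h10 : C.1 1 0 ≠ 0 := by
      intro h2
      rw [h2] at hC
      apply h0
      exact mul_self_eq_zero.1 (by linear_combination hC)
    apply hτ (-(C.1 0 0 / C.1 1 0)) (neg_ne_zero.2 (div_ne_zero h0 h10))
    field_simp
    linear_combination (-1 : F) * hC

variable {hK hφ}

theorem El.pow_SL {l : ℕ} {g : ↥(twistedD4 K q)} (E : El hK hφ l g) (hq : IsPrimePow q)
    (B : Matrix.SpecialLinearGroup (Fin 2) (KD φ 0)) :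
    (g * PhiD hφ hK 0 B) ^ Nat.card (Matrix.SpecialLinearGroup (Fin 2) (KD φ 0)) =
      g ^ Nat.card (Matrix.SpecialLinearGroup (Fin 2) (KD φ 0)) := by
  rw [(show Commute g (PhiD hφ hK 0 B) from E.comm0 hq B).mul_pow, ← map_pow, pow_card_eq_one', map_one, mul_one]

/-- **two elements which are not conjugate** -/
theorem El.not_conj {l : ℕ} {g : ↥(twistedD4 K q)} (E : El hK hφ l g) (hq : IsPrimePow q) (h5 : 5 ≤ l)
    (hm : ¬ l ∣ Nat.card (Matrix.SpecialLinearGroup (Fin 2) (KD φ 0)))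
    {B : Matrix.SpecialLinearGroup (Fin 2) (KD φ 0)} {x : ↥(twistedD4 K q)}
    (hx : x * (g * PhiD hφ hK 0 B) * x⁻¹ = g ^ 2 * PhiD hφ hK 0 B) : False := by
  obtain ⟨r, hr⟩ := CharP.exists K
  have : Fact r.Prime := ⟨CharP.char_is_prime K r⟩
  have E2 : El hK hφ l (g ^ 2) := E.powEl fun h => by
    have := Nat.le_of_dvd (by norm_num) h
    omega
  have h1 := E.pow_SL hq B
  have h2 := E2.pow_SL hq B
  rw [← hx, conj_pow, h1] at h2
  obtain ⟨m, hm'⟩ : ∃ m, m = Nat.card (Matrix.SpecialLinearGroup (Fin 2) (KD φ 0)) := ⟨_, rfl⟩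
  rw [← hm'] at hm h2
  obtain ⟨w, k, hk, h3⟩ := conj_T (hK := hK) (hφ := hφ) (r := r) (_root_.pow_mem E.mem m) (_root_.pow_mem E2.mem m) h2
  have h4 := (E.powEl hm).norm hq hk.inv
  rw [inv_inv, h3] at h4
  rcases h4 with h4 | h4
  · apply (E.powEl hm).ne
    rw [← pow_mul, two_mul, pow_add] at h4
    exact mul_eq_left.1 h4
  · have h6 : ¬ l ∣ 3 * m := by
      intro h
      rcases (Nat.Prime.dvd_mul E.prime).1 h with h7 | h7
      · have := Nat.le_of_dvd (by norm_num) h7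
        omega
      · exact hm h7
    apply (E.powEl h6).ne
    rw [← pow_mul] at h4
    have h7 : 3 * m = 2 * m + m := by ring
    rw [h7, pow_add, h4, inv_mul_cancel]

end Cfsg.Agent.H866.OZ.D4
end

private theorem dce_0d79e8707f11 : _root_.True := by
  try have : _root_.True := by simp only [_root_.Cfsg.Agent.H866.D4Wf.Frame.rts.eq_1]
  try have : _root_.True := by simp only [_root_.Cfsg.Agent.H866.OZ.D4.n'.congr_simp]
  try have : _root_.True := by simp only [_root_.Cfsg.Agent.H866.OZ.D4.w'.eq_1]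
  try have : _root_.True := by simp only [_root_.Cfsg.Agent.H866.OZ.D4.n'.eq_1]
  exact _root_.True.intro
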